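import Cfsg.Agent.Fi24Out.Tau

/-!
# Commuting pairs and triples of transpositions

All commuting triples are conjugate, and the product of a commuting pair determines the pair.
-/

set_option maxRecDepth 100000
set_option autoImplicit false

namespace Cfsg.Agent.Fi24Out

open Cfsg.Agent.CosetCert Cfsg.Agent.Fi24

theorem nd_commute {x y : Nat} (h : Cfsg.Spor.coxLabel Cfsg.Spor.Fi24.edges
    (node (Fi23Out.letter x)) (node (Fi23Out.letter y)) = 2) : Commute (nd x) (nd y) :=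
  gen_commute h

theorem nd_one_three : Commute (nd 1) (nd 3) := nd_commute (by decide)

theorem im_inv_of {y : G23} {a b : Nat} (h : Fi23Out.im y a = b) : Fi23Out.im y⁻¹ b = a := by
  rw [← h, Fi23Out.im_inv_im]

theorem pair_to {c e : Nat} (hc : c < 31671) (he : e < 31671)
    (h : Commute (Fi23Out.tau c) (Fi23Out.tau e)) (hne : c ≠ e) :
    ∃ y : G23, Fi23Out.im y 0 = c ∧ Fi23Out.im y (Fi23Out.pt 1) = e := by
  obtain ⟨u, hu⟩ := Fi23Out.exists_im hc
  have he' : Fi23Out.im u⁻¹ e < 31671 := Fi23Out.im_lt _ he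
  have hz : Commute Fi23Out.z (Fi23Out.tau (Fi23Out.im u⁻¹ e)) := by
    rw [← Fi23Out.tau_zero, ← im_inv_of hu, ← Fi23Out.conj_tau u⁻¹ hc, ← Fi23Out.conj_tau u⁻¹ he]
    exact (Commute.conj_iff _).2 h
  have h0 := (Fi23Out.commute_z_iff he').1 hz
  rw [Fi23Out.inF0, Bool.or_eq_true] at h0
  have hne' : ¬ Nat.beq (Fi23Out.im u⁻¹ e) 0 = true := fun h' => hne (by
    have := congrArg (Fi23Out.im u) (Nat.eq_of_beq_eq_true h')
    rw [Fi23Out.im_im_inv, hu] at this
    exact this.symm)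
  obtain ⟨k, k0, -, k1⟩ := Fi23Out.orbit_of_cover (prev := []) (x := 1)
    (gens := Fi23Out.stepGens0) (L := Fi23Out.stepTree0) (by decide) (by simp) Fi23Out.suborb_gens
    (by rw [Nat.eq_of_beq_eq_true Fi23Out.suborb_reach]; exact h0.resolve_left hne')
  exact ⟨u * k, by rw [Fi23Out.im_mul, k0, hu],
    by rw [Fi23Out.im_mul, k1, Fi23Out.im_im_inv]⟩

/-- Every commuting triple is conjugate to `l, b, d`, by an even element. -/
theorem triple_to {p q r : G} (hp : p ∈ D) (hq : q ∈ D) (hr : r ∈ D) (hpq : Commute p q)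
    (hpr : Commute p r) (hqr : Commute q r) (npq : p ≠ q) (npr : p ≠ r) (nqr : q ≠ r) :
    ∃ g ∈ A, g * L * g⁻¹ = p ∧ g * nd 1 * g⁻¹ = q ∧ g * nd 3 * g⁻¹ = r := by
  obtain ⟨u, rfl⟩ := mem_D.1 hp
  have back : ∀ {d : G}, d ∈ D → Commute (u * L * u⁻¹) d → u * L * u⁻¹ ≠ d →
      ∃ c, c < 31671 ∧ u * T c * u⁻¹ = d := by
    intro d hd hc hne
    have h1 : Commute (u⁻¹ * d * u⁻¹⁻¹) L := by
      have := (Commute.conj_iff u⁻¹).2 hc.symm
      rwa [show u⁻¹ * (u * L * u⁻¹) * u⁻¹⁻¹ = L by group] at this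
    have h2 : u⁻¹ * d * u⁻¹⁻¹ ≠ L := fun e => hne (by rw [← e]; group)
    obtain ⟨c, hclt, e⟩ := exists_T (D_conj u⁻¹ hd) h1 h2
    exact ⟨c, hclt, by rw [e]; group⟩
  obtain ⟨c, hc, rfl⟩ := back hq hpq npq
  obtain ⟨e, he, rfl⟩ := back hr hpr npr
  have htau := commute_T.1 ((Commute.conj_iff u).1 hqr)
  obtain ⟨y, y0, y1⟩ := pair_to hc he htau (fun h => nqr (by rw [h]))
  have hb := Fi23Out.pt_lt 1 (by norm_num)
  have hd := Fi23Out.pt_lt 3 (by norm_num)
  obtain ⟨y', y0', y1'⟩ := pair_to hb hd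
    (commute_T.1 (by rw [T_pt (by norm_num), T_pt (by norm_num)]; exact nd_one_three))
    (fun h => absurd (Fi23Out.pt_inj 1 (by norm_num) 3 (by norm_num) h) (by norm_num))
  have e1 : Fi23Out.im (y * y'⁻¹) (Fi23Out.pt 1) = c := by
    rw [Fi23Out.im_mul, im_inv_of y0', y0]
  have e3 : Fi23Out.im (y * y'⁻¹) (Fi23Out.pt 3) = e := by
    rw [Fi23Out.im_mul, im_inv_of y1', y1]
  have h : u * ξ (y * y'⁻¹) * L * (u * ξ (y * y'⁻¹))⁻¹ = u * L * u⁻¹ ∧
      u * ξ (y * y'⁻¹) * nd 1 * (u * ξ (y * y'⁻¹))⁻¹ = u * T c * u⁻¹ ∧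
      u * ξ (y * y'⁻¹) * nd 3 * (u * ξ (y * y'⁻¹))⁻¹ = u * T e * u⁻¹ := by
    refine ⟨?_, ?_, ?_⟩
    · rw [mul_assoc u, (ξ_comm_L _).eq]; group
    · rw [← T_pt (by norm_num), ← e1, ← conj_T _ hb]; group
    · rw [← T_pt (by norm_num), ← e3, ← conj_T _ hd]; group
  generalize u * ξ (y * y'⁻¹) = g at h
  rcases mem_A_or g with hg | hg
  · exact ⟨g, hg, h⟩
  · have hfix : ∀ d, Commute d L → g * L * d * (g * L)⁻¹ = g * d * g⁻¹ := fun d hd => by
      rw [mul_inv_rev, gen_inv, mul_assoc g L d, ← hd.eq]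
      simp only [mul_assoc]
      rw [← mul_assoc L L, gen_sq, one_mul]
    exact ⟨g * L, hg, (hfix _ (Commute.refl _)).trans h.1, (hfix _ (nd_comm_L 1)).trans h.2.1,
      (hfix _ (nd_comm_L 3)).trans h.2.2⟩

theorem nd_ne_L (x : Nat) (hx : x < 10) : nd x ≠ L := by
  rw [← T_pt hx]; exact T_ne_L (Fi23Out.pt_lt x hx)

theorem nd_inj {x y : Nat} (hx : x < 10) (hy : y < 10) (h : nd x = nd y) : x = y := by
  rw [← T_pt hx, ← T_pt hy] at h
  exact Fi23Out.pt_inj x hx y hy (T_inj (Fi23Out.pt_lt x hx) (Fi23Out.pt_lt y hy) h)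

theorem k_mem_D : gen .k ∈ D := isConj_L _

/-- The product determines the pair. -/
theorem pair_unique {p q r s : G} (hp : p ∈ D) (hq : q ∈ D) (hr : r ∈ D) (hs : s ∈ D)
    (hpq : Commute p q) (hrs : Commute r s) (nrs : r ≠ s) (e : p * q = r * s) :
    p = r ∨ p = s := by
  have hp' : Commute p (r * s) := by rw [← e]; exact (Commute.refl p).mul_right hpq
  by_cases hpr : Commute p r
  · have hps : Commute p s := by
      have := hpr.mul_right hp'
      rwa [← mul_assoc, D_sq hr, one_mul] at this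
    by_contra hne
    push Not at hne
    obtain ⟨g, -, gL, gb, gd⟩ := triple_to hr hs hp hrs hpr.symm hps.symm nrs (Ne.symm hne.1)
      (Ne.symm hne.2)
    have hd' := D_conj g k_mem_D
    have hdr : ¬ Commute (g * gen .k * g⁻¹) r := by
      rw [← gL, Commute.conj_iff]; exact k_not_comm
    have hds : Commute (g * gen .k * g⁻¹) s := by
      rw [← gb, Commute.conj_iff]; exact gen_commute (by decide)
    have hdp : Commute (g * gen .k * g⁻¹) p := by
      rw [← gd, Commute.conj_iff]; exact gen_commute (by decide)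
    generalize g * gen .k * g⁻¹ = d at hd' hdr hds hdp
    have c1 : r * s * d * (r * s)⁻¹ = r * d * r := by
      rw [mul_inv_rev, D_inv hr, D_inv hs, mul_assoc r s d, ← hds.eq]
      simp only [mul_assoc]
      rw [← mul_assoc s s, D_sq hs, one_mul]
    have c2 : q * p * d * (q * p)⁻¹ = q * d * q := by
      rw [mul_inv_rev, D_inv hp, D_inv hq, mul_assoc q p d, ← hdp.eq]
      simp only [mul_assoc]
      rw [← mul_assoc p p, D_sq hp, one_mul]
    rw [← e, hpq.eq, c2] at c1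
    by_cases hdq : Commute d q
    · apply hdr
      rw [← hdq.eq, mul_assoc, D_sq hq, mul_one] at c1
      show d * r = r * d
      conv_lhs => rw [c1]
      rw [mul_assoc, D_sq hr, mul_one]
    · rw [← D_braid hd' hq hdq, ← D_braid hd' hr hdr] at c1
      have hqr : q = r := mul_left_cancel (mul_right_cancel c1)
      apply hne.2
      rw [hqr, hrs.eq] at e
      exact mul_right_cancel e
  · have hps : ¬ Commute p s := fun h => hpr (by
      have := hp'.mul_right h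
      rwa [mul_assoc, D_sq hs, mul_one] at this)
    exfalso
    have h1 : s * p * s = r * p * r := by
      calc s * p * s = (r * r) * s * p * s := by rw [D_sq hr, one_mul]
        _ = r * ((r * s) * p) * s := by simp only [mul_assoc]
        _ = r * (p * (r * s)) * s := by rw [hp'.eq]
        _ = r * p * r * (s * s) := by simp only [mul_assoc]
        _ = r * p * r := by rw [D_sq hs, mul_one]
    rw [← D_braid hp hs hps, ← D_braid hp hr hpr] at h1
    exact nrs (mul_left_cancel (mul_right_cancel h1)).symm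

/-- Products of two commuting transpositions. -/
def K (x : G) : Prop :=
  ∃ p q, p ∈ D ∧ q ∈ D ∧ Commute p q ∧ p ≠ q ∧ x = p * q

theorem K_mem_A {x : G} (h : K x) : x ∈ A := by
  obtain ⟨p, q, hp, hq, -, -, rfl⟩ := h
  exact mul_mem_A hp hq

theorem K_sq {x : G} (h : K x) : x * x = 1 := by
  obtain ⟨p, q, hp, hq, hc, -, rfl⟩ := h
  calc p * q * (p * q) = p * q * (q * p) := by rw [hc.eq]
    _ = p * (q * q) * p := by simp only [mul_assoc]
    _ = 1 := by rw [D_sq hq, mul_one, D_sq hp]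

theorem K_conj (g : G) {x : G} (h : K x) : K (g * x * g⁻¹) := by
  obtain ⟨p, q, hp, hq, hc, hne, rfl⟩ := h
  exact ⟨g * p * g⁻¹, g * q * g⁻¹, D_conj g hp, D_conj g hq, (Commute.conj_iff g).2 hc,
    fun e => hne (mul_left_cancel (mul_right_cancel e)), by group⟩

theorem K_rep {x : G} (h : K x) : ∃ g ∈ A, g * (L * nd 1) * g⁻¹ = x := by
  obtain ⟨p, q, hp, hq, hc, hne, rfl⟩ := h
  obtain ⟨u, rfl⟩ := mem_D.1 hp
  have hq' := D_conj u⁻¹ hq
  obtain ⟨c, hclt, e⟩ := exists_T hq' (by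
    have := (Commute.conj_iff u⁻¹).2 hc.symm
    rwa [show u⁻¹ * (u * L * u⁻¹) * u⁻¹⁻¹ = L by group] at this) (fun h' => hne (by
      rw [← h']; group))
  obtain ⟨y, hy⟩ := exists_pt c hclt
  obtain ⟨y', hy'⟩ := exists_pt (Fi23Out.pt 1) (Fi23Out.pt_lt 1 (by norm_num))
  have hT : ξ (y * y'⁻¹) * nd 1 * (ξ (y * y'⁻¹))⁻¹ = T c := by
    rw [← T_pt (by norm_num), conj_T _ (Fi23Out.pt_lt 1 (by norm_num)), Fi23Out.im_mul,
      im_inv_of hy', hy]
  have hg : u * ξ (y * y'⁻¹) * (L * nd 1) * (u * ξ (y * y'⁻¹))⁻¹ = u * L * u⁻¹ * q := by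
    have hq2 : q = u * T c * u⁻¹ := by rw [e]; group
    rw [hq2, ← hT, mul_assoc u (ξ _) (L * nd 1), ← mul_assoc (ξ _) L, (ξ_comm_L _).eq]
    group
  generalize u * ξ (y * y'⁻¹) = g at hg
  rcases mem_A_or g with h | h
  · exact ⟨g, h, hg⟩
  · refine ⟨g * L, h, Eq.trans ?_ hg⟩
    rw [mul_inv_rev, gen_inv, mul_assoc g L (L * nd 1), ← mul_assoc L L, gen_sq, one_mul,
      mul_assoc g (nd 1), ← mul_assoc (nd 1) L, (nd_comm_L 1).eq]
    simp only [mul_assoc]

theorem K_L_nd : K (L * nd 1) :=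
  ⟨L, nd 1, L_mem_D, nd_mem 1, (nd_comm_L 1).symm, (nd_ne_L 1 (by norm_num)).symm, rfl⟩

end Cfsg.Agent.Fi24Out
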