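import Cfsg.Agent.Fi24.Held
import Cfsg.Agent.Fi23Out.Out

/-!
# The transpositions of Fi24, by points

The points of the coset table are the transpositions; those commuting with `l` are the points of Fi23.
-/

set_option maxRecDepth 100000
set_option autoImplicit false

namespace Cfsg.Agent.Fi24Out

open Cfsg.Agent.CosetCert Cfsg.Agent.Fi24

/-- Fi23. -/
abbrev G23 : Type := Fi23Out.G

/-- The commutator subgroup. -/
abbrev A : Subgroup G := commutator G

theorem mem_A {g : G} : g ∈ A ↔ sign g = 1 := by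
  rw [A, commutator_eq, MonoidHom.mem_ker]

theorem mem_A_or (g : G) : g ∈ A ∨ g * L ∈ A := by
  rw [mem_A, mem_A, map_mul, sign_gen]
  generalize sign g = m
  revert m
  decide

theorem sign_D {d : G} (hd : d ∈ D) : sign d = Multiplicative.ofAdd 1 := by
  obtain ⟨g, rfl⟩ := mem_D.1 hd
  rw [map_mul, map_mul, map_inv, sign_gen, mul_right_comm, mul_inv_cancel, one_mul]

theorem not_mem_A {d : G} (hd : d ∈ D) : d ∉ A := by
  rw [mem_A, sign_D hd]; decide

theorem mul_mem_A {d e : G} (hd : d ∈ D) (he : e ∈ D) : d * e ∈ A := by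
  rw [mem_A, map_mul, sign_D hd, sign_D he]; decide

theorem L_mem_D : L ∈ D := mem_conjugatesOf_self

theorem D_conj (g : G) {d : G} (hd : d ∈ D) : g * d * g⁻¹ ∈ D := by
  obtain ⟨u, rfl⟩ := mem_D.1 hd
  exact mem_D.2 ⟨g * u, by group⟩

theorem D_sq {d : G} (hd : d ∈ D) : d * d = 1 := by
  rw [← pow_two, ← orderOf_D hd, pow_orderOf_eq_one]

theorem D_inv {d : G} (hd : d ∈ D) : d⁻¹ = d := inv_eq_of_mul_eq_one_right (D_sq hd)

theorem cube_of_not_commute {d e : G} (hd : d ∈ D) (he : e ∈ D) (h : ¬ Commute d e) :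
    (d * e) ^ 3 = 1 := by
  refine (three_class.1.2 d hd e he).resolve_left fun h2 => h ?_
  rw [pow_two] at h2
  show d * e = e * d
  rw [← inv_eq_of_mul_eq_one_right h2, mul_inv_rev, D_inv hd, D_inv he]

theorem D_braid {d e : G} (hd : d ∈ D) (he : e ∈ D) (h : ¬ Commute d e) :
    d * e * d = e * d * e := by
  have h3 := cube_of_not_commute hd he h
  have h4 : d * e * d * (e * d * e) = 1 := by
    rw [← h3]; simp only [pow_succ, pow_zero, one_mul, mul_assoc]
  rw [eq_inv_of_mul_eq_one_left h4, mul_inv_rev, mul_inv_rev, D_inv hd, D_inv he, mul_assoc]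

/-- The transposition of a point. -/
noncomputable def tau24 (c : Fin 306936) : G :=
  Quotient.out (π c) * L * (Quotient.out (π c))⁻¹

theorem conj_tau24 (g : G) (c : Fin 306936) : g * tau24 c * g⁻¹ = tau24 (φ g c) := by
  have h1 : ((Quotient.out (π (φ g c)) : G) : G ⧸ H) = ((g * Quotient.out (π c) : G) : G ⧸ H) := by
    rw [QuotientGroup.out_eq', π_φ]
    exact (congrArg (g • ·) (QuotientGroup.out_eq' (π c))).symm
  have hc := L_comm (QuotientGroup.eq.1 h1)
  rw [tau24, tau24]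
  generalize Quotient.out (π (φ g c)) = u at hc ⊢
  generalize Quotient.out (π c) = v at hc ⊢
  calc g * (v * L * v⁻¹) * g⁻¹ = u * (u⁻¹ * (g * v) * L) * v⁻¹ * g⁻¹ := by group
    _ = u * (L * (u⁻¹ * (g * v))) * v⁻¹ * g⁻¹ := by rw [hc]
    _ = u * L * u⁻¹ := by group

theorem tau24_inj {c d : Fin 306936} (h : tau24 c = tau24 d) : c = d := by
  apply π.injective
  rw [← QuotientGroup.out_eq' (π c), ← QuotientGroup.out_eq' (π d)]
  apply QuotientGroup.eq.2
  suffices h9 : (Quotient.out (π c))⁻¹ * Quotient.out (π d) ∈ Subgroup.centralizer ({L} : Set G) by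
    rwa [centralizer_L] at h9
  rw [Subgroup.mem_centralizer_singleton_iff]
  rw [tau24, tau24] at h
  generalize Quotient.out (π c) = u at h ⊢
  generalize Quotient.out (π d) = v at h ⊢
  calc u⁻¹ * v * L = u⁻¹ * (v * L * v⁻¹) * v := by group
    _ = L * (u⁻¹ * v) := by rw [← h]; group

theorem commute_tau24 {g : G} {c : Fin 306936} : Commute g (tau24 c) ↔ φ g c = c := by
  constructor
  · intro h
    apply tau24_inj
    rw [← conj_tau24, h.eq, mul_inv_cancel_right]
  · intro h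
    have e := conj_tau24 g c
    rw [h] at e
    exact eq_mul_of_mul_inv_eq e

theorem tau24_c0 : tau24 c0 = L := by
  have h1 : π c0 = ((1 : G) : G ⧸ H) := by
    refine π.symm.injective ?_
    rw [Equiv.symm_apply_apply]
    refine (fixed_eq_c0 _ fun h hh => ?_).symm
    apply π.injective
    rw [π_φ, Equiv.apply_symm_apply]
    exact QuotientGroup.eq.2 (by simpa using inv_mem hh)
  have h2 : Quotient.out (π c0) ∈ H := by
    have := QuotientGroup.eq.1 ((QuotientGroup.out_eq' (π c0)).trans h1)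
    simpa using this
  rw [tau24, L_comm h2, mul_inv_cancel_right]

theorem exists_tau24 {d : G} (hd : d ∈ D) : ∃ c, tau24 c = d := by
  obtain ⟨g, rfl⟩ := mem_D.1 hd
  exact ⟨φ g c0, by rw [← conj_tau24, tau24_c0]⟩

theorem gen_commute {x y : Cfsg.Spor.Fi24.Gen}
    (h : Cfsg.Spor.coxLabel Cfsg.Spor.Fi24.edges x y = 2) : Commute (gen x) (gen y) := by
  have hn : ∀ z : Cfsg.Spor.Fi24.Gen, z ∈ Cfsg.Spor.coxNodes Cfsg.Spor.Fi24.edges := by
    intro z; cases z <;> decide
  have h2 := PresentedGroup.one_of_mem (rels := R)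
    (x := (FreeGroup.of x * FreeGroup.of y) ^ 2) (Or.inl ⟨x, hn x, y, hn y, by rw [h]⟩)
  rw [map_pow, map_mul, pow_two] at h2
  change gen x * gen y * (gen x * gen y) = 1 at h2
  show gen x * gen y = gen y * gen x
  exact (eq_inv_of_mul_eq_one_left h2).trans (by rw [mul_inv_rev, gen_inv, gen_inv])

theorem k_tau24 : gen .k = tau24 (φ toK c0) := by
  rw [← toK_conj, ← conj_tau24, tau24_c0]

/-- The node of a number of Fi23. -/
noncomputable def nd (x : Nat) : G := gen (node (Fi23Out.letter x))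

theorem ξ_comm_L (y : G23) : Commute (ξ y) L := L_comm (ξ_range ⟨y, rfl⟩).1

theorem ξ_mem_A (y : G23) : ξ y ∈ A := by
  rw [A, commutator_eq]; exact (ξ_range ⟨y, rfl⟩).2

theorem commute_ξ {a b : G23} : Commute (ξ a) (ξ b) ↔ Commute a b :=
  ⟨fun h => ξ_injective (by rw [map_mul, map_mul]; exact h), fun h => h.map ξ⟩

theorem exists_ξ {g : G} (hA : g ∈ A) (hL : Commute g L) : ∃ y, ξ y = g := by
  have hH : g ∈ H := by
    rw [← centralizer_L]; exact Subgroup.mem_centralizer_singleton_iff.2 hL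
  rcases H_split hH with ⟨y, hy⟩ | ⟨y, hy⟩
  · exact ⟨y, hy⟩
  · exfalso
    have h1 := mem_A.1 (ξ_mem_A y)
    rw [hy, map_mul, mem_A.1 hA, one_mul, sign_gen] at h1
    revert h1; decide

/-- The transposition of a point of Fi23. -/
noncomputable def T (c : Nat) : G := ξ (Fi23Out.tau c) * L

theorem ξ_tau (c : Nat) : ξ (Fi23Out.tau c) = T c * L := by
  rw [T, mul_assoc, gen_sq, mul_one]

theorem T_comm_L (c : Nat) : Commute (T c) L := (ξ_comm_L _).mul_left (Commute.refl L)

theorem ξ_gen (x : Nat) : ξ (Fi23Out.gen x) = nd x * L := ξ_of _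

theorem T_pt {x : Nat} (hx : x < 10) : T (Fi23Out.pt x) = nd x := by
  rw [T, ← Fi23Out.gen_eq_tau x hx, ξ_gen, mul_assoc, gen_sq, mul_one]

theorem conj_T (y : G23) {c : Nat} (hc : c < 31671) :
    ξ y * T c * (ξ y)⁻¹ = T (Fi23Out.im y c) := by
  calc ξ y * (ξ (Fi23Out.tau c) * L) * (ξ y)⁻¹
      = ξ y * ξ (Fi23Out.tau c) * (L * (ξ y)⁻¹) := by simp only [mul_assoc]
    _ = ξ y * ξ (Fi23Out.tau c) * ((ξ y)⁻¹ * L) := by rw [(ξ_comm_L y).inv_left.eq]
    _ = T (Fi23Out.im y c) := by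
        rw [T, ← Fi23Out.conj_tau y hc, map_mul, map_mul, map_inv]; simp only [mul_assoc]

theorem nd_mem (x : Nat) : nd x ∈ D := isConj_L _

theorem nd_comm_L (x : Nat) : Commute (nd x) L := L_comm (gen_mem (node_ne _))

theorem exists_pt (c : Nat) (hc : c < 31671) :
    ∃ y : G23, Fi23Out.im y (Fi23Out.pt 0) = c := by
  obtain ⟨a, ha⟩ := Fi23Out.exists_im (Fi23Out.pt_lt 0 (by norm_num))
  obtain ⟨b, hb⟩ := Fi23Out.exists_im hc
  refine ⟨b * a⁻¹, ?_⟩
  rw [Fi23Out.im_mul, ← ha, Fi23Out.im_inv_im, hb]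

theorem T_mem {c : Nat} (hc : c < 31671) : T c ∈ D := by
  obtain ⟨y, rfl⟩ := exists_pt c hc
  rw [← conj_T y (Fi23Out.pt_lt 0 (by norm_num)), T_pt (by norm_num)]
  exact D_conj _ (nd_mem 0)

theorem T_inj {c d : Nat} (hc : c < 31671) (hd : d < 31671) (h : T c = T d) : c = d :=
  Fi23Out.tau_inj hc hd (ξ_injective (mul_right_cancel h))

theorem T_ne_L {c : Nat} (hc : c < 31671) : T c ≠ L := by
  intro h
  have h1 : Fi23Out.tau c = 1 := ξ_injective ((mul_eq_right.1 h).trans (map_one ξ).symm)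
  have h2 : ∀ g : G23, Fi23Out.im g c = c := fun g =>
    Fi23Out.tau_inj (Fi23Out.im_lt g hc) hc (by rw [← Fi23Out.conj_tau g hc, h1]; group)
  obtain ⟨y, hy⟩ := exists_pt c hc
  have h3 : ∀ d, d < 31671 → d = c := by
    intro d hd
    obtain ⟨y', hy'⟩ := exists_pt d hd
    have h := h2 (y' * y⁻¹)
    conv_lhs at h => arg 2; rw [← hy]
    rw [Fi23Out.im_mul, Fi23Out.im_inv_im, hy'] at h
    exact h
  exact Fi23Out.pt_ne_zero 0 (by norm_num)
    ((h3 _ (Fi23Out.pt_lt 0 (by norm_num))).trans (h3 0 (by norm_num)).symm)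

theorem commute_T {c d : Nat} :
    Commute (T c) (T d) ↔ Commute (Fi23Out.tau c) (Fi23Out.tau d) := by
  constructor
  · intro h
    rw [← commute_ξ, ξ_tau, ξ_tau]
    exact (h.mul_right (T_comm_L c)).mul_left ((T_comm_L d).symm.mul_right (Commute.refl L))
  · intro h
    exact ((h.map ξ).mul_right (ξ_comm_L _)).mul_left
      ((ξ_comm_L _).symm.mul_right (Commute.refl L))

theorem commute_ξ_T {y : G23} {c : Nat} (hc : c < 31671) :
    Commute (ξ y) (T c) ↔ Fi23Out.im y c = c := by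
  constructor
  · intro h
    refine T_inj (Fi23Out.im_lt y hc) hc ?_
    rw [← conj_T y hc, h.eq, mul_inv_cancel_right]
  · intro h
    have e := conj_T y hc
    rw [h] at e
    exact eq_mul_of_mul_inv_eq e

theorem exists_T {d : G} (hd : d ∈ D) (hc : Commute d L) (hne : d ≠ L) :
    ∃ c, c < 31671 ∧ T c = d := by
  rcases D_cases hd with h | ⟨h, hh, rfl⟩ | ⟨h, hh, rfl⟩
  · exact absurd h hne
  · have key : ∀ y, ξ y * gen .a * (ξ y)⁻¹ = T (Fi23Out.im y (Fi23Out.pt 0)) := fun y => by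
      rw [← conj_T y (Fi23Out.pt_lt 0 (by norm_num)), T_pt (by norm_num)]
      rfl
    refine (H_split hh).elim ?_ ?_
    · rintro ⟨y, rfl⟩
      exact ⟨_, Fi23Out.im_lt y (Fi23Out.pt_lt 0 (by norm_num)), (key y).symm⟩
    · rintro ⟨y, hy⟩
      have e : h = ξ y * L := by rw [hy, mul_assoc, gen_sq, mul_one]
      refine ⟨_, Fi23Out.im_lt y (Fi23Out.pt_lt 0 (by norm_num)), ?_⟩
      rw [← key y, e, mul_inv_rev, gen_inv]
      have ha : Commute (gen .a) L := L_comm (gen_mem (by decide))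
      calc ξ y * gen .a * (ξ y)⁻¹ = ξ y * (gen .a * (L * L)) * (ξ y)⁻¹ := by rw [gen_sq, mul_one]
        _ = ξ y * (L * gen .a * L) * (ξ y)⁻¹ := by rw [← mul_assoc (gen .a), ha.eq]
        _ = ξ y * L * gen .a * (L * (ξ y)⁻¹) := by simp only [mul_assoc]
  · exfalso
    apply k_not_comm
    have := (Commute.conj_iff h⁻¹).2 hc
    rw [L_comm (inv_mem hh)] at this
    simpa [mul_assoc] using this

end Cfsg.Agent.Fi24Out
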