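import Cfsg.Agent.Fi24Out.Defs

/-! Generated: kernel checks of fixed points. -/

set_option Elab.async false

namespace Cfsg.Agent.Fi24Out

open Cfsg.Agent.CosetCert

theorem fix_okAt40000 : allFrom okFixBoth 40000 1000 = true := by decide +kernel

theorem fix_okAt41000 : allFrom okFixBoth 41000 1000 = true := by decide +kernel

theorem fix_okAt42000 : allFrom okFixBoth 42000 1000 = true := by decide +kernel

theorem fix_okAt43000 : allFrom okFixBoth 43000 1000 = true := by decide +kernel

theorem fix_okAt44000 : allFrom okFixBoth 44000 1000 = true := by decide +kernel

theorem fix_okAt45000 : allFrom okFixBoth 45000 1000 = true := by decide +kernel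

theorem fix_okAt46000 : allFrom okFixBoth 46000 1000 = true := by decide +kernel

theorem fix_okAt47000 : allFrom okFixBoth 47000 1000 = true := by decide +kernel

theorem fix_okAt48000 : allFrom okFixBoth 48000 1000 = true := by decide +kernel

theorem fix_okAt49000 : allFrom okFixBoth 49000 1000 = true := by decide +kernel

theorem fix_okAt50000 : allFrom okFixBoth 50000 1000 = true := by decide +kernel

theorem fix_okAt51000 : allFrom okFixBoth 51000 1000 = true := by decide +kernel

theorem fix_okAt52000 : allFrom okFixBoth 52000 1000 = true := by decide +kernel

theorem fix_okAt53000 : allFrom okFixBoth 53000 1000 = true := by decide +kernel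

theorem fix_okAt54000 : allFrom okFixBoth 54000 1000 = true := by decide +kernel

theorem fix_okAt55000 : allFrom okFixBoth 55000 1000 = true := by decide +kernel

theorem fix_okAt56000 : allFrom okFixBoth 56000 1000 = true := by decide +kernel

theorem fix_okAt57000 : allFrom okFixBoth 57000 1000 = true := by decide +kernel

theorem fix_okAt58000 : allFrom okFixBoth 58000 1000 = true := by decide +kernel

theorem fix_okAt59000 : allFrom okFixBoth 59000 1000 = true := by decide +kernel

theorem fix_okAt60000 : allFrom okFixBoth 60000 1000 = true := by decide +kernel

theorem fix_okAt61000 : allFrom okFixBoth 61000 1000 = true := by decide +kernel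

theorem fix_okAt62000 : allFrom okFixBoth 62000 1000 = true := by decide +kernel

theorem fix_okAt63000 : allFrom okFixBoth 63000 1000 = true := by decide +kernel

theorem fix_okAt64000 : allFrom okFixBoth 64000 1000 = true := by decide +kernel

theorem fix_okAt65000 : allFrom okFixBoth 65000 1000 = true := by decide +kernel

theorem fix_okAt66000 : allFrom okFixBoth 66000 1000 = true := by decide +kernel

theorem fix_okAt67000 : allFrom okFixBoth 67000 1000 = true := by decide +kernel

theorem fix_okAt68000 : allFrom okFixBoth 68000 1000 = true := by decide +kernel

theorem fix_okAt69000 : allFrom okFixBoth 69000 1000 = true := by decide +kernel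

theorem fix_okAt70000 : allFrom okFixBoth 70000 1000 = true := by decide +kernel

theorem fix_okAt71000 : allFrom okFixBoth 71000 1000 = true := by decide +kernel

theorem fix_okAt72000 : allFrom okFixBoth 72000 1000 = true := by decide +kernel

theorem fix_okAt73000 : allFrom okFixBoth 73000 1000 = true := by decide +kernel

theorem fix_okAt74000 : allFrom okFixBoth 74000 1000 = true := by decide +kernel

theorem fix_okAt75000 : allFrom okFixBoth 75000 1000 = true := by decide +kernel

theorem fix_okAt76000 : allFrom okFixBoth 76000 1000 = true := by decide +kernel

theorem fix_okAt77000 : allFrom okFixBoth 77000 1000 = true := by decide +kernel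

theorem fix_okAt78000 : allFrom okFixBoth 78000 1000 = true := by decide +kernel

theorem fix_okAt79000 : allFrom okFixBoth 79000 1000 = true := by decide +kernel

end Cfsg.Agent.Fi24Out
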