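import Cfsg.Agent.Fi24Out.Defs

/-! Generated: kernel checks of fixed points. -/

set_option Elab.async false

namespace Cfsg.Agent.Fi24Out

open Cfsg.Agent.CosetCert

theorem fix_okAt80000 : allFrom okFixBoth 80000 1000 = true := by decide +kernel

theorem fix_okAt81000 : allFrom okFixBoth 81000 1000 = true := by decide +kernel

theorem fix_okAt82000 : allFrom okFixBoth 82000 1000 = true := by decide +kernel

theorem fix_okAt83000 : allFrom okFixBoth 83000 1000 = true := by decide +kernel

theorem fix_okAt84000 : allFrom okFixBoth 84000 1000 = true := by decide +kernel

theorem fix_okAt85000 : allFrom okFixBoth 85000 1000 = true := by decide +kernel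

theorem fix_okAt86000 : allFrom okFixBoth 86000 1000 = true := by decide +kernel

theorem fix_okAt87000 : allFrom okFixBoth 87000 1000 = true := by decide +kernel

theorem fix_okAt88000 : allFrom okFixBoth 88000 1000 = true := by decide +kernel

theorem fix_okAt89000 : allFrom okFixBoth 89000 1000 = true := by decide +kernel

theorem fix_okAt90000 : allFrom okFixBoth 90000 1000 = true := by decide +kernel

theorem fix_okAt91000 : allFrom okFixBoth 91000 1000 = true := by decide +kernel

theorem fix_okAt92000 : allFrom okFixBoth 92000 1000 = true := by decide +kernel

theorem fix_okAt93000 : allFrom okFixBoth 93000 1000 = true := by decide +kernel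

theorem fix_okAt94000 : allFrom okFixBoth 94000 1000 = true := by decide +kernel

theorem fix_okAt95000 : allFrom okFixBoth 95000 1000 = true := by decide +kernel

theorem fix_okAt96000 : allFrom okFixBoth 96000 1000 = true := by decide +kernel

theorem fix_okAt97000 : allFrom okFixBoth 97000 1000 = true := by decide +kernel

theorem fix_okAt98000 : allFrom okFixBoth 98000 1000 = true := by decide +kernel

theorem fix_okAt99000 : allFrom okFixBoth 99000 1000 = true := by decide +kernel

theorem fix_okAt100000 : allFrom okFixBoth 100000 1000 = true := by decide +kernel

theorem fix_okAt101000 : allFrom okFixBoth 101000 1000 = true := by decide +kernel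

theorem fix_okAt102000 : allFrom okFixBoth 102000 1000 = true := by decide +kernel

theorem fix_okAt103000 : allFrom okFixBoth 103000 1000 = true := by decide +kernel

theorem fix_okAt104000 : allFrom okFixBoth 104000 1000 = true := by decide +kernel

theorem fix_okAt105000 : allFrom okFixBoth 105000 1000 = true := by decide +kernel

theorem fix_okAt106000 : allFrom okFixBoth 106000 1000 = true := by decide +kernel

theorem fix_okAt107000 : allFrom okFixBoth 107000 1000 = true := by decide +kernel

theorem fix_okAt108000 : allFrom okFixBoth 108000 1000 = true := by decide +kernel

theorem fix_okAt109000 : allFrom okFixBoth 109000 1000 = true := by decide +kernel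

theorem fix_okAt110000 : allFrom okFixBoth 110000 1000 = true := by decide +kernel

theorem fix_okAt111000 : allFrom okFixBoth 111000 1000 = true := by decide +kernel

theorem fix_okAt112000 : allFrom okFixBoth 112000 1000 = true := by decide +kernel

theorem fix_okAt113000 : allFrom okFixBoth 113000 1000 = true := by decide +kernel

theorem fix_okAt114000 : allFrom okFixBoth 114000 1000 = true := by decide +kernel

theorem fix_okAt115000 : allFrom okFixBoth 115000 1000 = true := by decide +kernel

theorem fix_okAt116000 : allFrom okFixBoth 116000 1000 = true := by decide +kernel

theorem fix_okAt117000 : allFrom okFixBoth 117000 1000 = true := by decide +kernel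

theorem fix_okAt118000 : allFrom okFixBoth 118000 1000 = true := by decide +kernel

theorem fix_okAt119000 : allFrom okFixBoth 119000 1000 = true := by decide +kernel

end Cfsg.Agent.Fi24Out
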