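import Cfsg.Agent.Fi24Out.Defs

/-! Generated: kernel checks of fixed points. -/

set_option Elab.async false

namespace Cfsg.Agent.Fi24Out

open Cfsg.Agent.CosetCert

theorem fix_okAt120000 : allFrom okFixBoth 120000 1000 = true := by decide +kernel

theorem fix_okAt121000 : allFrom okFixBoth 121000 1000 = true := by decide +kernel

theorem fix_okAt122000 : allFrom okFixBoth 122000 1000 = true := by decide +kernel

theorem fix_okAt123000 : allFrom okFixBoth 123000 1000 = true := by decide +kernel

theorem fix_okAt124000 : allFrom okFixBoth 124000 1000 = true := by decide +kernel

theorem fix_okAt125000 : allFrom okFixBoth 125000 1000 = true := by decide +kernel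

theorem fix_okAt126000 : allFrom okFixBoth 126000 1000 = true := by decide +kernel

theorem fix_okAt127000 : allFrom okFixBoth 127000 1000 = true := by decide +kernel

theorem fix_okAt128000 : allFrom okFixBoth 128000 1000 = true := by decide +kernel

theorem fix_okAt129000 : allFrom okFixBoth 129000 1000 = true := by decide +kernel

theorem fix_okAt130000 : allFrom okFixBoth 130000 1000 = true := by decide +kernel

theorem fix_okAt131000 : allFrom okFixBoth 131000 1000 = true := by decide +kernel

theorem fix_okAt132000 : allFrom okFixBoth 132000 1000 = true := by decide +kernel

theorem fix_okAt133000 : allFrom okFixBoth 133000 1000 = true := by decide +kernel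

theorem fix_okAt134000 : allFrom okFixBoth 134000 1000 = true := by decide +kernel

theorem fix_okAt135000 : allFrom okFixBoth 135000 1000 = true := by decide +kernel

theorem fix_okAt136000 : allFrom okFixBoth 136000 1000 = true := by decide +kernel

theorem fix_okAt137000 : allFrom okFixBoth 137000 1000 = true := by decide +kernel

theorem fix_okAt138000 : allFrom okFixBoth 138000 1000 = true := by decide +kernel

theorem fix_okAt139000 : allFrom okFixBoth 139000 1000 = true := by decide +kernel

theorem fix_okAt140000 : allFrom okFixBoth 140000 1000 = true := by decide +kernel

theorem fix_okAt141000 : allFrom okFixBoth 141000 1000 = true := by decide +kernel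

theorem fix_okAt142000 : allFrom okFixBoth 142000 1000 = true := by decide +kernel

theorem fix_okAt143000 : allFrom okFixBoth 143000 1000 = true := by decide +kernel

theorem fix_okAt144000 : allFrom okFixBoth 144000 1000 = true := by decide +kernel

theorem fix_okAt145000 : allFrom okFixBoth 145000 1000 = true := by decide +kernel

theorem fix_okAt146000 : allFrom okFixBoth 146000 1000 = true := by decide +kernel

theorem fix_okAt147000 : allFrom okFixBoth 147000 1000 = true := by decide +kernel

theorem fix_okAt148000 : allFrom okFixBoth 148000 1000 = true := by decide +kernel

theorem fix_okAt149000 : allFrom okFixBoth 149000 1000 = true := by decide +kernel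

theorem fix_okAt150000 : allFrom okFixBoth 150000 1000 = true := by decide +kernel

theorem fix_okAt151000 : allFrom okFixBoth 151000 1000 = true := by decide +kernel

theorem fix_okAt152000 : allFrom okFixBoth 152000 1000 = true := by decide +kernel

theorem fix_okAt153000 : allFrom okFixBoth 153000 1000 = true := by decide +kernel

theorem fix_okAt154000 : allFrom okFixBoth 154000 1000 = true := by decide +kernel

theorem fix_okAt155000 : allFrom okFixBoth 155000 1000 = true := by decide +kernel

theorem fix_okAt156000 : allFrom okFixBoth 156000 1000 = true := by decide +kernel

theorem fix_okAt157000 : allFrom okFixBoth 157000 1000 = true := by decide +kernel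

theorem fix_okAt158000 : allFrom okFixBoth 158000 1000 = true := by decide +kernel

theorem fix_okAt159000 : allFrom okFixBoth 159000 1000 = true := by decide +kernel

end Cfsg.Agent.Fi24Out
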