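import Cfsg.Agent.Fi24Out.Defs

/-! Generated: kernel checks of fixed points. -/

set_option Elab.async false

namespace Cfsg.Agent.Fi24Out

open Cfsg.Agent.CosetCert

theorem fix_okAt160000 : allFrom okFixBoth 160000 1000 = true := by decide +kernel

theorem fix_okAt161000 : allFrom okFixBoth 161000 1000 = true := by decide +kernel

theorem fix_okAt162000 : allFrom okFixBoth 162000 1000 = true := by decide +kernel

theorem fix_okAt163000 : allFrom okFixBoth 163000 1000 = true := by decide +kernel

theorem fix_okAt164000 : allFrom okFixBoth 164000 1000 = true := by decide +kernel

theorem fix_okAt165000 : allFrom okFixBoth 165000 1000 = true := by decide +kernel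

theorem fix_okAt166000 : allFrom okFixBoth 166000 1000 = true := by decide +kernel

theorem fix_okAt167000 : allFrom okFixBoth 167000 1000 = true := by decide +kernel

theorem fix_okAt168000 : allFrom okFixBoth 168000 1000 = true := by decide +kernel

theorem fix_okAt169000 : allFrom okFixBoth 169000 1000 = true := by decide +kernel

theorem fix_okAt170000 : allFrom okFixBoth 170000 1000 = true := by decide +kernel

theorem fix_okAt171000 : allFrom okFixBoth 171000 1000 = true := by decide +kernel

theorem fix_okAt172000 : allFrom okFixBoth 172000 1000 = true := by decide +kernel

theorem fix_okAt173000 : allFrom okFixBoth 173000 1000 = true := by decide +kernel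

theorem fix_okAt174000 : allFrom okFixBoth 174000 1000 = true := by decide +kernel

theorem fix_okAt175000 : allFrom okFixBoth 175000 1000 = true := by decide +kernel

theorem fix_okAt176000 : allFrom okFixBoth 176000 1000 = true := by decide +kernel

theorem fix_okAt177000 : allFrom okFixBoth 177000 1000 = true := by decide +kernel

theorem fix_okAt178000 : allFrom okFixBoth 178000 1000 = true := by decide +kernel

theorem fix_okAt179000 : allFrom okFixBoth 179000 1000 = true := by decide +kernel

theorem fix_okAt180000 : allFrom okFixBoth 180000 1000 = true := by decide +kernel

theorem fix_okAt181000 : allFrom okFixBoth 181000 1000 = true := by decide +kernel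

theorem fix_okAt182000 : allFrom okFixBoth 182000 1000 = true := by decide +kernel

theorem fix_okAt183000 : allFrom okFixBoth 183000 1000 = true := by decide +kernel

theorem fix_okAt184000 : allFrom okFixBoth 184000 1000 = true := by decide +kernel

theorem fix_okAt185000 : allFrom okFixBoth 185000 1000 = true := by decide +kernel

theorem fix_okAt186000 : allFrom okFixBoth 186000 1000 = true := by decide +kernel

theorem fix_okAt187000 : allFrom okFixBoth 187000 1000 = true := by decide +kernel

theorem fix_okAt188000 : allFrom okFixBoth 188000 1000 = true := by decide +kernel

theorem fix_okAt189000 : allFrom okFixBoth 189000 1000 = true := by decide +kernel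

theorem fix_okAt190000 : allFrom okFixBoth 190000 1000 = true := by decide +kernel

theorem fix_okAt191000 : allFrom okFixBoth 191000 1000 = true := by decide +kernel

theorem fix_okAt192000 : allFrom okFixBoth 192000 1000 = true := by decide +kernel

theorem fix_okAt193000 : allFrom okFixBoth 193000 1000 = true := by decide +kernel

theorem fix_okAt194000 : allFrom okFixBoth 194000 1000 = true := by decide +kernel

theorem fix_okAt195000 : allFrom okFixBoth 195000 1000 = true := by decide +kernel

theorem fix_okAt196000 : allFrom okFixBoth 196000 1000 = true := by decide +kernel

theorem fix_okAt197000 : allFrom okFixBoth 197000 1000 = true := by decide +kernel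

theorem fix_okAt198000 : allFrom okFixBoth 198000 1000 = true := by decide +kernel

theorem fix_okAt199000 : allFrom okFixBoth 199000 1000 = true := by decide +kernel

end Cfsg.Agent.Fi24Out
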