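import Cfsg.Agent.Fi24Out.Defs

/-! Generated: kernel checks of fixed points. -/

set_option Elab.async false

namespace Cfsg.Agent.Fi24Out

open Cfsg.Agent.CosetCert

theorem fix_okAt200000 : allFrom okFixBoth 200000 1000 = true := by decide +kernel

theorem fix_okAt201000 : allFrom okFixBoth 201000 1000 = true := by decide +kernel

theorem fix_okAt202000 : allFrom okFixBoth 202000 1000 = true := by decide +kernel

theorem fix_okAt203000 : allFrom okFixBoth 203000 1000 = true := by decide +kernel

theorem fix_okAt204000 : allFrom okFixBoth 204000 1000 = true := by decide +kernel

theorem fix_okAt205000 : allFrom okFixBoth 205000 1000 = true := by decide +kernel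

theorem fix_okAt206000 : allFrom okFixBoth 206000 1000 = true := by decide +kernel

theorem fix_okAt207000 : allFrom okFixBoth 207000 1000 = true := by decide +kernel

theorem fix_okAt208000 : allFrom okFixBoth 208000 1000 = true := by decide +kernel

theorem fix_okAt209000 : allFrom okFixBoth 209000 1000 = true := by decide +kernel

theorem fix_okAt210000 : allFrom okFixBoth 210000 1000 = true := by decide +kernel

theorem fix_okAt211000 : allFrom okFixBoth 211000 1000 = true := by decide +kernel

theorem fix_okAt212000 : allFrom okFixBoth 212000 1000 = true := by decide +kernel

theorem fix_okAt213000 : allFrom okFixBoth 213000 1000 = true := by decide +kernel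

theorem fix_okAt214000 : allFrom okFixBoth 214000 1000 = true := by decide +kernel

theorem fix_okAt215000 : allFrom okFixBoth 215000 1000 = true := by decide +kernel

theorem fix_okAt216000 : allFrom okFixBoth 216000 1000 = true := by decide +kernel

theorem fix_okAt217000 : allFrom okFixBoth 217000 1000 = true := by decide +kernel

theorem fix_okAt218000 : allFrom okFixBoth 218000 1000 = true := by decide +kernel

theorem fix_okAt219000 : allFrom okFixBoth 219000 1000 = true := by decide +kernel

theorem fix_okAt220000 : allFrom okFixBoth 220000 1000 = true := by decide +kernel

theorem fix_okAt221000 : allFrom okFixBoth 221000 1000 = true := by decide +kernel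

theorem fix_okAt222000 : allFrom okFixBoth 222000 1000 = true := by decide +kernel

theorem fix_okAt223000 : allFrom okFixBoth 223000 1000 = true := by decide +kernel

theorem fix_okAt224000 : allFrom okFixBoth 224000 1000 = true := by decide +kernel

theorem fix_okAt225000 : allFrom okFixBoth 225000 1000 = true := by decide +kernel

theorem fix_okAt226000 : allFrom okFixBoth 226000 1000 = true := by decide +kernel

theorem fix_okAt227000 : allFrom okFixBoth 227000 1000 = true := by decide +kernel

theorem fix_okAt228000 : allFrom okFixBoth 228000 1000 = true := by decide +kernel

theorem fix_okAt229000 : allFrom okFixBoth 229000 1000 = true := by decide +kernel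

theorem fix_okAt230000 : allFrom okFixBoth 230000 1000 = true := by decide +kernel

theorem fix_okAt231000 : allFrom okFixBoth 231000 1000 = true := by decide +kernel

theorem fix_okAt232000 : allFrom okFixBoth 232000 1000 = true := by decide +kernel

theorem fix_okAt233000 : allFrom okFixBoth 233000 1000 = true := by decide +kernel

theorem fix_okAt234000 : allFrom okFixBoth 234000 1000 = true := by decide +kernel

theorem fix_okAt235000 : allFrom okFixBoth 235000 1000 = true := by decide +kernel

theorem fix_okAt236000 : allFrom okFixBoth 236000 1000 = true := by decide +kernel

theorem fix_okAt237000 : allFrom okFixBoth 237000 1000 = true := by decide +kernel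

theorem fix_okAt238000 : allFrom okFixBoth 238000 1000 = true := by decide +kernel

theorem fix_okAt239000 : allFrom okFixBoth 239000 1000 = true := by decide +kernel

end Cfsg.Agent.Fi24Out
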