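import Cfsg.Agent.Fi24Out.Defs

/-! Generated: kernel checks of fixed points. -/

set_option Elab.async false

namespace Cfsg.Agent.Fi24Out

open Cfsg.Agent.CosetCert

theorem fix_okAt240000 : allFrom okFixBoth 240000 1000 = true := by decide +kernel

theorem fix_okAt241000 : allFrom okFixBoth 241000 1000 = true := by decide +kernel

theorem fix_okAt242000 : allFrom okFixBoth 242000 1000 = true := by decide +kernel

theorem fix_okAt243000 : allFrom okFixBoth 243000 1000 = true := by decide +kernel

theorem fix_okAt244000 : allFrom okFixBoth 244000 1000 = true := by decide +kernel

theorem fix_okAt245000 : allFrom okFixBoth 245000 1000 = true := by decide +kernel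

theorem fix_okAt246000 : allFrom okFixBoth 246000 1000 = true := by decide +kernel

theorem fix_okAt247000 : allFrom okFixBoth 247000 1000 = true := by decide +kernel

theorem fix_okAt248000 : allFrom okFixBoth 248000 1000 = true := by decide +kernel

theorem fix_okAt249000 : allFrom okFixBoth 249000 1000 = true := by decide +kernel

theorem fix_okAt250000 : allFrom okFixBoth 250000 1000 = true := by decide +kernel

theorem fix_okAt251000 : allFrom okFixBoth 251000 1000 = true := by decide +kernel

theorem fix_okAt252000 : allFrom okFixBoth 252000 1000 = true := by decide +kernel

theorem fix_okAt253000 : allFrom okFixBoth 253000 1000 = true := by decide +kernel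

theorem fix_okAt254000 : allFrom okFixBoth 254000 1000 = true := by decide +kernel

theorem fix_okAt255000 : allFrom okFixBoth 255000 1000 = true := by decide +kernel

theorem fix_okAt256000 : allFrom okFixBoth 256000 1000 = true := by decide +kernel

theorem fix_okAt257000 : allFrom okFixBoth 257000 1000 = true := by decide +kernel

theorem fix_okAt258000 : allFrom okFixBoth 258000 1000 = true := by decide +kernel

theorem fix_okAt259000 : allFrom okFixBoth 259000 1000 = true := by decide +kernel

theorem fix_okAt260000 : allFrom okFixBoth 260000 1000 = true := by decide +kernel

theorem fix_okAt261000 : allFrom okFixBoth 261000 1000 = true := by decide +kernel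

theorem fix_okAt262000 : allFrom okFixBoth 262000 1000 = true := by decide +kernel

theorem fix_okAt263000 : allFrom okFixBoth 263000 1000 = true := by decide +kernel

theorem fix_okAt264000 : allFrom okFixBoth 264000 1000 = true := by decide +kernel

theorem fix_okAt265000 : allFrom okFixBoth 265000 1000 = true := by decide +kernel

theorem fix_okAt266000 : allFrom okFixBoth 266000 1000 = true := by decide +kernel

theorem fix_okAt267000 : allFrom okFixBoth 267000 1000 = true := by decide +kernel

theorem fix_okAt268000 : allFrom okFixBoth 268000 1000 = true := by decide +kernel

theorem fix_okAt269000 : allFrom okFixBoth 269000 1000 = true := by decide +kernel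

theorem fix_okAt270000 : allFrom okFixBoth 270000 1000 = true := by decide +kernel

theorem fix_okAt271000 : allFrom okFixBoth 271000 1000 = true := by decide +kernel

theorem fix_okAt272000 : allFrom okFixBoth 272000 1000 = true := by decide +kernel

theorem fix_okAt273000 : allFrom okFixBoth 273000 1000 = true := by decide +kernel

theorem fix_okAt274000 : allFrom okFixBoth 274000 1000 = true := by decide +kernel

theorem fix_okAt275000 : allFrom okFixBoth 275000 1000 = true := by decide +kernel

theorem fix_okAt276000 : allFrom okFixBoth 276000 1000 = true := by decide +kernel

theorem fix_okAt277000 : allFrom okFixBoth 277000 1000 = true := by decide +kernel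

theorem fix_okAt278000 : allFrom okFixBoth 278000 1000 = true := by decide +kernel

theorem fix_okAt279000 : allFrom okFixBoth 279000 1000 = true := by decide +kernel

end Cfsg.Agent.Fi24Out
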