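import Cfsg.Agent.Fi24Out.Defs

/-! Generated: kernel checks of fixed points. -/

set_option Elab.async false

namespace Cfsg.Agent.Fi24Out

open Cfsg.Agent.CosetCert

theorem fix_okAt280000 : allFrom okFixBoth 280000 1000 = true := by decide +kernel

theorem fix_okAt281000 : allFrom okFixBoth 281000 1000 = true := by decide +kernel

theorem fix_okAt282000 : allFrom okFixBoth 282000 1000 = true := by decide +kernel

theorem fix_okAt283000 : allFrom okFixBoth 283000 1000 = true := by decide +kernel

theorem fix_okAt284000 : allFrom okFixBoth 284000 1000 = true := by decide +kernel

theorem fix_okAt285000 : allFrom okFixBoth 285000 1000 = true := by decide +kernel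

theorem fix_okAt286000 : allFrom okFixBoth 286000 1000 = true := by decide +kernel

theorem fix_okAt287000 : allFrom okFixBoth 287000 1000 = true := by decide +kernel

theorem fix_okAt288000 : allFrom okFixBoth 288000 1000 = true := by decide +kernel

theorem fix_okAt289000 : allFrom okFixBoth 289000 1000 = true := by decide +kernel

theorem fix_okAt290000 : allFrom okFixBoth 290000 1000 = true := by decide +kernel

theorem fix_okAt291000 : allFrom okFixBoth 291000 1000 = true := by decide +kernel

theorem fix_okAt292000 : allFrom okFixBoth 292000 1000 = true := by decide +kernel

theorem fix_okAt293000 : allFrom okFixBoth 293000 1000 = true := by decide +kernel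

theorem fix_okAt294000 : allFrom okFixBoth 294000 1000 = true := by decide +kernel

theorem fix_okAt295000 : allFrom okFixBoth 295000 1000 = true := by decide +kernel

theorem fix_okAt296000 : allFrom okFixBoth 296000 1000 = true := by decide +kernel

theorem fix_okAt297000 : allFrom okFixBoth 297000 1000 = true := by decide +kernel

theorem fix_okAt298000 : allFrom okFixBoth 298000 1000 = true := by decide +kernel

theorem fix_okAt299000 : allFrom okFixBoth 299000 1000 = true := by decide +kernel

theorem fix_okAt300000 : allFrom okFixBoth 300000 1000 = true := by decide +kernel

theorem fix_okAt301000 : allFrom okFixBoth 301000 1000 = true := by decide +kernel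

theorem fix_okAt302000 : allFrom okFixBoth 302000 1000 = true := by decide +kernel

theorem fix_okAt303000 : allFrom okFixBoth 303000 1000 = true := by decide +kernel

theorem fix_okAt304000 : allFrom okFixBoth 304000 1000 = true := by decide +kernel

theorem fix_okAt305000 : allFrom okFixBoth 305000 1000 = true := by decide +kernel

theorem fix_okAt306000 : allFrom okFixBoth 306000 936 = true := by decide +kernel

end Cfsg.Agent.Fi24Out
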