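import Cfsg.Agent.Fi24Out.Defs

/-! Generated: kernel checks of fixed points. -/

set_option Elab.async false

namespace Cfsg.Agent.Fi24Out

open Cfsg.Agent.CosetCert

theorem fix_okAt0 : allFrom okFixBoth 0 1000 = true := by decide +kernel

theorem fix_okAt1000 : allFrom okFixBoth 1000 1000 = true := by decide +kernel

theorem fix_okAt2000 : allFrom okFixBoth 2000 1000 = true := by decide +kernel

theorem fix_okAt3000 : allFrom okFixBoth 3000 1000 = true := by decide +kernel

theorem fix_okAt4000 : allFrom okFixBoth 4000 1000 = true := by decide +kernel

theorem fix_okAt5000 : allFrom okFixBoth 5000 1000 = true := by decide +kernel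

theorem fix_okAt6000 : allFrom okFixBoth 6000 1000 = true := by decide +kernel

theorem fix_okAt7000 : allFrom okFixBoth 7000 1000 = true := by decide +kernel

theorem fix_okAt8000 : allFrom okFixBoth 8000 1000 = true := by decide +kernel

theorem fix_okAt9000 : allFrom okFixBoth 9000 1000 = true := by decide +kernel

theorem fix_okAt10000 : allFrom okFixBoth 10000 1000 = true := by decide +kernel

theorem fix_okAt11000 : allFrom okFixBoth 11000 1000 = true := by decide +kernel

theorem fix_okAt12000 : allFrom okFixBoth 12000 1000 = true := by decide +kernel

theorem fix_okAt13000 : allFrom okFixBoth 13000 1000 = true := by decide +kernel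

theorem fix_okAt14000 : allFrom okFixBoth 14000 1000 = true := by decide +kernel

theorem fix_okAt15000 : allFrom okFixBoth 15000 1000 = true := by decide +kernel

theorem fix_okAt16000 : allFrom okFixBoth 16000 1000 = true := by decide +kernel

theorem fix_okAt17000 : allFrom okFixBoth 17000 1000 = true := by decide +kernel

theorem fix_okAt18000 : allFrom okFixBoth 18000 1000 = true := by decide +kernel

theorem fix_okAt19000 : allFrom okFixBoth 19000 1000 = true := by decide +kernel

theorem fix_okAt20000 : allFrom okFixBoth 20000 1000 = true := by decide +kernel

theorem fix_okAt21000 : allFrom okFixBoth 21000 1000 = true := by decide +kernel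

theorem fix_okAt22000 : allFrom okFixBoth 22000 1000 = true := by decide +kernel

theorem fix_okAt23000 : allFrom okFixBoth 23000 1000 = true := by decide +kernel

theorem fix_okAt24000 : allFrom okFixBoth 24000 1000 = true := by decide +kernel

theorem fix_okAt25000 : allFrom okFixBoth 25000 1000 = true := by decide +kernel

theorem fix_okAt26000 : allFrom okFixBoth 26000 1000 = true := by decide +kernel

theorem fix_okAt27000 : allFrom okFixBoth 27000 1000 = true := by decide +kernel

theorem fix_okAt28000 : allFrom okFixBoth 28000 1000 = true := by decide +kernel

theorem fix_okAt29000 : allFrom okFixBoth 29000 1000 = true := by decide +kernel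

theorem fix_okAt30000 : allFrom okFixBoth 30000 1000 = true := by decide +kernel

theorem fix_okAt31000 : allFrom okFixBoth 31000 1000 = true := by decide +kernel

theorem fix_okAt32000 : allFrom okFixBoth 32000 1000 = true := by decide +kernel

theorem fix_okAt33000 : allFrom okFixBoth 33000 1000 = true := by decide +kernel

theorem fix_okAt34000 : allFrom okFixBoth 34000 1000 = true := by decide +kernel

theorem fix_okAt35000 : allFrom okFixBoth 35000 1000 = true := by decide +kernel

theorem fix_okAt36000 : allFrom okFixBoth 36000 1000 = true := by decide +kernel

theorem fix_okAt37000 : allFrom okFixBoth 37000 1000 = true := by decide +kernel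

theorem fix_okAt38000 : allFrom okFixBoth 38000 1000 = true := by decide +kernel

theorem fix_okAt39000 : allFrom okFixBoth 39000 1000 = true := by decide +kernel

end Cfsg.Agent.Fi24Out
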