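import Cfsg.Agent.CosetCert.Fi24Index.Defs

/-!
# Two elements of the centraliser of a transposition of Fi24, by words
-/

set_option autoImplicit false

namespace Cfsg.Agent.Fi24Out

open Cfsg.Agent.CosetCert

/-- The word of the element of order 13. -/
def word13 : List Nat := [5, 4, 6, 3, 5, 9, 7, 8, 4, 2]

/-- The word of the element of order 11 in Fi23. -/
def low11 : List Nat := [4, 6, 0, 3, 2, 5, 8, 1, 3, 2, 4, 3, 5, 8, 9, 3, 2, 3]

/-- The word of the element of order 11. -/
def word11 : List Nat := [7, 9, 1, 4, 3, 8, 5, 2, 4, 3, 7, 4, 8, 5, 6, 4, 3, 4]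

/-- A fixed point of the word is one of the listed ones. -/
noncomputable def okFix (w pts : List Nat) (c : Nat) : Bool :=
  force (Fi24Index.data.fwd w c) fun d => !Nat.beq d c || pts.any fun q => Nat.beq q c

/-- Both words fix no more than the listed points. -/
noncomputable def okFixBoth (c : Nat) : Bool :=
  gate (okFix word11 [0, 34, 88677] c) (okFix word13 [0, 1, 3, 88677, 245786, 283930] c)

end Cfsg.Agent.Fi24Out
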