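import Cfsg.Agent.Fi24Out.Pairs
import Cfsg.Agent.Fi24Out.CheckFix

/-!
# The transpositions centralising the elements of orders 13 and 11
-/

set_option maxRecDepth 100000
set_option autoImplicit false

namespace Cfsg.Agent.Fi24Out

open Cfsg.Agent.CosetCert Cfsg.Agent.Fi24

theorem gw_el23 : ∀ w : List Nat, (∀ x ∈ w, x < 10) → Fi23Out.gw w = el23 w.reverse
  | [], _ => (map_one _).symm
  | x :: w, h => by
    have hx := h x (List.mem_cons_self ..)
    rw [List.reverse_cons, el23_append, el23_single, Fi23Out.gw,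
      gw_el23 w fun y hy => h y (List.mem_cons_of_mem _ hy), (Fi23Out.letter_spec x hx).2.1]
    rfl

theorem el_pairUp : ∀ r : List Nat, el (pairUp r) = el (r.map node23) * L ^ r.length := by
  intro r
  induction r with
  | nil => simp [pairUp, el_nil]
  | cons x t ih =>
    have hc : Commute L (el (t.map node23)) := by
      refine (L_comm (el_mem fun y hy => ?_)).symm
      obtain ⟨z, -, rfl⟩ := List.mem_map.1 hy
      refine ⟨Nat.pos_of_ne_zero fun h0 => node_ne (Fi23Index31671.dec z).1 ?_, node23_lt z⟩
      have e := congrArg (fun v => (Fi24Index.dec v).1) h0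
      simp only [node23, (Fi24Index.spells.enc_lt _).2] at e
      exact e
    rw [show pairUp (x :: t) = [node23 x] ++ [11] ++ pairUp t from rfl, el_append, el_append, ih,
      List.map_cons, show node23 x :: t.map node23 = [node23 x] ++ t.map node23 from rfl, el_append,
      el_single (show 11 < 12 by norm_num), List.length_cons, pow_succ']
    show el [node23 x] * L * (el (t.map node23) * L ^ t.length) = _
    simp only [mul_assoc]
    rw [← mul_assoc L, hc.eq, mul_assoc]

/-- A commuting point is fixed by the word, which lists its fixed points. -/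
theorem fixed_of_commute {w low pts : List Nat} (hlow : ∀ x ∈ low, x < 10)
    (hmap : low.map node23 = w) (heven : Even low.length)
    (hscan : ∀ c, c < 306936 → okFix w pts c = true) {d : G} (hd : d ∈ D)
    (hc : Commute (ξ (Fi23Out.gw low)) d) :
    ∃ c : Fin 306936, (c : Nat) ∈ pts ∧ tau24 c = d := by
  obtain ⟨c, rfl⟩ := exists_tau24 hd
  refine ⟨c, ?_, rfl⟩
  have he : ξ (Fi23Out.gw low) = el (w.reverse) := by
    obtain ⟨k, hk⟩ := heven
    rw [gw_el23 low hlow, ξ_el23, el_pairUp, List.length_reverse, hk, ← two_mul, pow_mul, pow_two,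
      gen_sq, one_pow, mul_one, List.map_reverse, hmap]
  have h := commute_tau24.1 hc
  rw [he] at h
  have hw : ∀ x ∈ w.reverse, x < 12 := by
    intro x hx
    rw [← hmap] at hx
    obtain ⟨z, -, rfl⟩ := List.mem_map.1 (List.mem_reverse.1 hx)
    exact node23_lt z
  have h2 := φ_apply w.reverse hw c
  rw [h, List.reverse_reverse] at h2
  have h3 := hscan c c.2
  rw [okFix, force_eq, Bool.or_eq_true] at h3
  rcases h3 with h3 | h3
  · rw [← h2] at h3; simp at h3
  · obtain ⟨q, hq, hqc⟩ := List.any_eq_true.1 h3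
    rw [← Nat.eq_of_beq_eq_true hqc]
    exact hq

/-- As many transpositions as listed points are all of them. -/
theorem mem_of_commute {w low pts : List Nat} (hlow : ∀ x ∈ low, x < 10)
    (hmap : low.map node23 = w) (heven : Even low.length)
    (hscan : ∀ c, c < 306936 → okFix w pts c = true) {l : List G} (hn : l.Nodup)
    (hlen : pts.length ≤ l.length)
    (hl : ∀ e ∈ l, e ∈ D ∧ Commute (ξ (Fi23Out.gw low)) e) {d : G} (hd : d ∈ D)
    (hc : Commute (ξ (Fi23Out.gw low)) d) : d ∈ l := by
  classical
  have key : ∀ e, e ∈ D → Commute (ξ (Fi23Out.gw low)) e →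
      e ∈ (Finset.univ.filter fun c : Fin 306936 => (c : Nat) ∈ pts).image tau24 := fun e h1 h2 => by
    obtain ⟨c, hc, rfl⟩ := fixed_of_commute hlow hmap heven hscan h1 h2
    exact Finset.mem_image_of_mem _ (Finset.mem_filter.2 ⟨Finset.mem_univ _, hc⟩)
  have hcard : ((Finset.univ.filter fun c : Fin 306936 => (c : Nat) ∈ pts).image tau24).card ≤
      l.toFinset.card := by
    refine Finset.card_image_le.trans ?_
    rw [List.toFinset_card_of_nodup hn]
    refine le_trans ?_ hlen
    refine le_trans ?_ (List.toFinset_card_le pts)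
    exact Finset.card_le_card_of_injOn Fin.val (fun c hc => List.mem_toFinset.2 (Finset.mem_filter.1 hc).2)
      Fin.val_injective.injOn
  have h := Finset.eq_of_subset_of_card_le (fun e he => key e (hl e (List.mem_toFinset.1 he)).1
    (hl e (List.mem_toFinset.1 he)).2) hcard
  exact List.mem_toFinset.1 (h ▸ key d hd hc)

theorem scan11 : ∀ c, c < 306936 → okFix word11 [0, 34, 88677] c = true := fun c hc => by
  have h := okFixBoth_all c hc
  rw [okFixBoth, gate_eq, Bool.and_eq_true] at h
  exact h.1

theorem scan13 : ∀ c, c < 306936 → okFix word13 [0, 1, 3, 88677, 245786, 283930] c = true :=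
  fun c hc => by
    have h := okFixBoth_all c hc
    rw [okFixBoth, gate_eq, Bool.and_eq_true] at h
    exact h.2

/-- The element of order 13. -/
noncomputable def s13 : G := ξ Fi23Out.s

/-- The element of order 11 of Fi23. -/
def y11 : G23 := Fi23Out.gw low11

/-- The element of order 11. -/
noncomputable def s11 : G := ξ y11

theorem low11_letters : ∀ x ∈ low11, x < 10 := Fi23Out.lettersB_spec (by decide +kernel)

/-- The first triangle. -/
noncomputable def P : Fin 3 → G := ![L, gen .k, L * gen .k * L]

/-- The second triangle. -/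
noncomputable def Q : Fin 3 → G :=
  ![T 0, T (Fi23Out.fw Fi23Out.w1 0), T (Fi23Out.fw Fi23Out.w2 0)]

theorem w1_lt : Fi23Out.fw Fi23Out.w1 0 < 31671 :=
  Fi23Out.fwd_lt Fi23Out.w1_letters (by norm_num)

theorem w2_lt : Fi23Out.fw Fi23Out.w2 0 < 31671 :=
  Fi23Out.fwd_lt Fi23Out.w2_letters (by norm_num)

theorem P_mem (i : Fin 3) : P i ∈ D := by
  fin_cases i
  · exact L_mem_D
  · exact k_mem_D
  · show L * gen .k * L ∈ D
    have := D_conj L k_mem_D
    rwa [gen_inv] at this

theorem Q_mem (i : Fin 3) : Q i ∈ D := by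
  fin_cases i
  exacts [T_mem (by norm_num), T_mem w1_lt, T_mem w2_lt]

theorem k_comm_word : ∀ w : List Nat, (∀ x ∈ w, 0 < x ∧ x < 10) →
    Commute (gen .k) (el (w.map node23)) := by
  intro w
  induction w with
  | nil => intro _; rw [List.map_nil, el_nil]; exact Commute.one_right _
  | cons x t ih =>
    intro h
    rw [List.map_cons, show node23 x :: t.map node23 = [node23 x] ++ t.map node23 from rfl,
      el_append, el_single (node23_lt x), node23, (Fi24Index.spells.enc_lt _).2]
    refine Commute.mul_right (gen_commute ?_) (ih fun y hy => h y (List.mem_cons_of_mem _ hy))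
    obtain ⟨h0, h10⟩ := h x (List.mem_cons_self ..)
    interval_cases x <;> decide

theorem s13_eq : s13 = el (Fi23Out.sWord.reverse.map node23) := by
  rw [s13, Fi23Out.s, gw_el23 _ Fi23Out.sWord_letters, ξ_el23, el_pairUp,
    show Fi23Out.sWord.reverse.length = 2 * 5 by decide, pow_mul, pow_two, gen_sq, one_pow, mul_one]

theorem s13_comm_P (i : Fin 3) : Commute s13 (P i) := by
  have hL : Commute s13 L := ξ_comm_L _
  have hk : Commute s13 (gen .k) := by
    rw [s13_eq]
    refine (k_comm_word _ fun x hx => ?_).symm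
    have h : ∀ x ∈ Fi23Out.sWord.reverse, 0 < x ∧ x < 10 := by decide
    exact h x hx
  fin_cases i
  exacts [hL, hk, (hL.mul_right hk).mul_right hL]

theorem s13_comm_Q (i : Fin 3) : Commute s13 (Q i) := by
  fin_cases i
  exacts [(commute_ξ_T (by norm_num)).2 Fi23Out.s_fix0, (commute_ξ_T w1_lt).2 Fi23Out.s_fix1,
    (commute_ξ_T w2_lt).2 Fi23Out.s_fix2]

theorem LkL : L * gen .k * L = gen .k * L * gen .k :=
  braid (x := Cfsg.Spor.Fi24.Gen.l) (y := .k) (by decide)

theorem P_not_commute {i j : Fin 3} (h : i ≠ j) : ¬ Commute (P i) (P j) := by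
  have h01 : ¬ Commute L (gen .k) := fun h => k_not_comm h.symm
  have h02 : ¬ Commute L (L * gen .k * L) := fun h => h01 (by
    have := (Commute.conj_iff L).2 h
    rw [gen_inv] at this
    simpa [mul_assoc, gen_sq, ← mul_assoc L L] using this)
  have h12 : ¬ Commute (gen .k) (L * gen .k * L) := fun h => h01 (by
    rw [LkL] at h
    have := ((Commute.conj_iff (gen .k)).2 h).symm
    rw [gen_inv] at this
    simpa [mul_assoc, gen_sq, ← mul_assoc (gen .k) (gen .k)] using this)
  fin_cases i <;> fin_cases j
  exacts [absurd rfl h, h01, h02, fun h' => h01 h'.symm, absurd rfl h, h12,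
    fun h' => h02 h'.symm, fun h' => h12 h'.symm, absurd rfl h]

theorem Q_not_commute {i j : Fin 3} (h : i ≠ j) : ¬ Commute (Q i) (Q j) := by
  have h01 : ¬ Commute (T 0) (T (Fi23Out.fw Fi23Out.w1 0)) := by
    rw [commute_T, Fi23Out.tau_zero, Fi23Out.commute_z_iff w1_lt]; decide +kernel
  have h02 : ¬ Commute (T 0) (T (Fi23Out.fw Fi23Out.w2 0)) := by
    rw [commute_T, Fi23Out.tau_zero, Fi23Out.commute_z_iff w2_lt]; decide +kernel
  have h12 : ¬ Commute (T (Fi23Out.fw Fi23Out.w1 0)) (T (Fi23Out.fw Fi23Out.w2 0)) := by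
    rw [commute_T, Fi23Out.commute_word_iff Fi23Out.w1_letters w2_lt]; decide +kernel
  fin_cases i <;> fin_cases j
  exacts [absurd rfl h, h01, h02, fun h' => h01 h'.symm, absurd rfl h, h12,
    fun h' => h02 h'.symm, fun h' => h12 h'.symm, absurd rfl h]

/-- The transposition of a word's point commutes with `k`. -/
theorem k_comm_T {w : List Nat} (hw : ∀ x ∈ w, x < 10)
    (h : Nat.beq (Fi24Index.data.fwd
      (pairUp (w.reverse ++ Fi23Centralizer.zWord ++ w).reverse ++ [11]).reverse
      (Fi24Index.data.fwd [11, 0].reverse 0)) (Fi24Index.data.fwd [11, 0].reverse 0) = true) :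
    Commute (gen .k) (T (Fi23Out.fw w 0)) := by
  have hT : T (Fi23Out.fw w 0) = el (pairUp (w.reverse ++ Fi23Centralizer.zWord ++ w).reverse ++ [11]) := by
    rw [T, Fi23Out.fw, Fi23Out.tau_fwd hw, gw_el23 _ (Fi23Out.tau_letters hw), ξ_el23, el_append,
      el_single (show 11 < 12 by norm_num)]
    rfl
  rw [hT, k_tau24]
  refine Commute.symm (commute_tau24.2 (Fin.ext ?_))
  rw [← el_words.2, φ_apply [11, 0] (by decide) c0 |> fun e => show
    ((φ (el [11, 0]) c0 : Fin 306936) : Nat) = _ from e, φ_apply _ ?_, φ_apply [11, 0] (by decide)]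
  · exact Nat.eq_of_beq_eq_true h
  · intro x hx
    rcases List.mem_append.1 hx with h | h
    · exact pairUp_lt x h
    · rw [List.mem_singleton.1 h]; norm_num

theorem P_comm_Q (i j : Fin 3) : Commute (P i) (Q j) := by
  have hL : ∀ j, Commute L (Q j) := fun j => by
    fin_cases j <;> exact (T_comm_L _).symm
  have hk : ∀ j, Commute (gen .k) (Q j) := fun j => by
    fin_cases j
    · show Commute (gen .k) (T 0)
      have := k_comm_T (w := []) (by simp) (by decide +kernel)
      rwa [show Fi23Out.fw [] 0 = 0 from rfl] at this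
    · exact k_comm_T Fi23Out.w1_letters (by decide +kernel)
    · exact k_comm_T Fi23Out.w2_letters (by decide +kernel)
  fin_cases i
  exacts [hL j, hk j, ((hL j).mul_left (hk j)).mul_left (hL j)]

theorem PQ_nodup : (List.ofFn P ++ List.ofFn Q).Nodup := by
  have hP : Function.Injective P := fun i j e => by
    by_contra h; exact P_not_commute h (e ▸ Commute.refl _)
  have hQ : Function.Injective Q := fun i j e => by
    by_contra h; exact Q_not_commute h (e ▸ Commute.refl _)
  refine List.nodup_append.2 ⟨List.nodup_ofFn.2 hP, List.nodup_ofFn.2 hQ, ?_⟩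
  intro a ha b hb e
  obtain ⟨i, rfl⟩ := List.mem_ofFn.1 ha
  obtain ⟨j, rfl⟩ := List.mem_ofFn.1 hb
  obtain ⟨i', hi'⟩ : ∃ i' : Fin 3, i' ≠ i := ⟨i + 1, by fin_cases i <;> decide⟩
  exact P_not_commute hi' (e ▸ P_comm_Q i' j)

/-- The six transpositions commuting with the element of order 13. -/
theorem commute_s13 {d : G} (hd : d ∈ D) (hc : Commute s13 d) :
    (∃ i, d = P i) ∨ ∃ i, d = Q i := by
  have h := mem_of_commute Fi23Out.sWord_letters (show _ = word13 by decide +kernel) (by decide)
    scan13 PQ_nodup (by simp) (fun e he => by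
      rcases List.mem_append.1 he with h | h <;> obtain ⟨i, rfl⟩ := List.mem_ofFn.1 h
      exacts [⟨P_mem i, s13_comm_P i⟩, ⟨Q_mem i, s13_comm_Q i⟩]) hd hc
  rcases List.mem_append.1 h with h | h <;> obtain ⟨i, rfl⟩ := List.mem_ofFn.1 h
  exacts [Or.inl ⟨i, rfl⟩, Or.inr ⟨i, rfl⟩]

/-- A triple commuting with the element of order 11. -/
noncomputable def R3 : List G := [L, T 0, T 8003]

theorem s11_comm : ∀ e ∈ R3, e ∈ D ∧ Commute s11 e := by
  intro e he
  simp only [R3, List.mem_cons, List.not_mem_nil, or_false] at he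
  rcases he with rfl | rfl | rfl
  · exact ⟨L_mem_D, ξ_comm_L _⟩
  · refine ⟨T_mem (by norm_num), (commute_ξ_T (by norm_num)).2 ?_⟩
    rw [y11, Fi23Out.im_gw low11_letters (by norm_num)]; decide +kernel
  · refine ⟨T_mem (by norm_num), (commute_ξ_T (by norm_num)).2 ?_⟩
    rw [y11, Fi23Out.im_gw low11_letters (by norm_num)]; decide +kernel

theorem T0_comm_T8003 : Commute (T 0) (T 8003) := by
  rw [commute_T, Fi23Out.tau_zero, Fi23Out.commute_z_iff (by norm_num)]; decide +kernel

theorem R3_nodup : R3.Nodup := by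
  have h : T 0 ≠ T 8003 := fun e => by
    have := T_inj (by norm_num) (by norm_num) e; omega
  simp [R3, h, (T_ne_L (c := 0) (by norm_num)).symm, (T_ne_L (c := 8003) (by norm_num)).symm]

/-- The three transpositions commuting with the element of order 11. -/
theorem commute_s11 {d : G} (hd : d ∈ D) (hc : Commute s11 d) :
    d = L ∨ d = T 0 ∨ d = T 8003 := by
  have h := mem_of_commute low11_letters (show _ = word11 by decide +kernel) (by decide)
    scan11 R3_nodup (le_refl _) s11_comm hd hc
  simpa [R3] using h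

theorem y11_pow : y11 ^ 11 = 1 := by
  rw [y11, ← Fi23Out.gw_pow]
  exact Fi23Out.gw_eq_one (by decide +kernel) (by decide +kernel)

theorem s11_order : orderOf s11 = 11 := by
  have : Fact (Nat.Prime 11) := ⟨by norm_num⟩
  rw [s11, orderOf_injective ξ ξ_injective]
  refine orderOf_eq_prime y11_pow fun h => ?_
  have e := Fi23Out.im_gw low11_letters (c := 1) (by norm_num)
  rw [← y11, h, Fi23Out.im_one] at e
  revert e; decide +kernel

theorem s13_order : orderOf s13 = 13 := by
  rw [s13, orderOf_injective ξ ξ_injective, Fi23Out.s_order]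

end Cfsg.Agent.Fi24Out
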