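import Cfsg.Agent.Fi24Out.Fixed
import Mathlib.GroupTheory.Sylow

/-!
# Automorphisms keep the pairs and their triangles

An involution centralising the element of order 13 either fixes one of the six transpositions there,
and then it is a pair, or swaps the two triangles; nine pairs cannot all go to such elements.
-/

set_option maxRecDepth 100000
set_option autoImplicit false

namespace Cfsg.Agent.Fi24Out

open Cfsg.Agent.CosetCert Cfsg.Agent.Fi24
open scoped Pointwise

/-- An automorphism as a map on elements. -/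
noncomputable def F (θ : MulAut A) (g : G) : G := by
  classical exact if h : g ∈ A then (θ ⟨g, h⟩ : G) else 1

variable {θ : MulAut A} {g h : G}

theorem F_def (hg : g ∈ A) : F θ g = θ ⟨g, hg⟩ := by
  classical rw [F, dif_pos hg]

theorem F_mem (hg : g ∈ A) : F θ g ∈ A := by rw [F_def hg]; exact (θ ⟨g, hg⟩).2

theorem F_mul (hg : g ∈ A) (hh : h ∈ A) : F θ (g * h) = F θ g * F θ h := by
  rw [F_def hg, F_def hh, F_def (mul_mem hg hh)]
  exact congrArg Subtype.val (map_mul θ ⟨g, hg⟩ ⟨h, hh⟩)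

theorem F_one : F θ 1 = 1 := by
  rw [F_def (one_mem A)]; exact congrArg Subtype.val (map_one θ)

theorem F_inv (hg : g ∈ A) : F θ g⁻¹ = (F θ g)⁻¹ := by
  rw [F_def hg, F_def (inv_mem hg)]
  exact congrArg Subtype.val (map_inv θ ⟨g, hg⟩)

theorem F_inj (hg : g ∈ A) (hh : h ∈ A) (e : F θ g = F θ h) : g = h := by
  rw [F_def hg, F_def hh] at e
  exact congrArg Subtype.val (θ.injective (Subtype.ext e))

theorem F_commute (hg : g ∈ A) (hh : h ∈ A) : Commute (F θ g) (F θ h) ↔ Commute g h := by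
  refine ⟨fun e => F_inj (θ := θ) (mul_mem hg hh) (mul_mem hh hg) ?_, fun e => ?_⟩
  · show F θ (g * h) = F θ (h * g)
    rw [F_mul hg hh, F_mul hh hg]; exact e
  · show F θ g * F θ h = F θ h * F θ g
    rw [← F_mul hg hh, ← F_mul hh hg, e.eq]

theorem F_conj {a x : G} (ha : a ∈ A) (hx : x ∈ A) :
    F θ (a * x * a⁻¹) = F θ a * F θ x * (F θ a)⁻¹ := by
  rw [F_mul (mul_mem ha hx) (inv_mem ha), F_mul ha hx, F_inv ha]

/-- `θ` may be changed by an inner automorphism to keep the subgroup of a Sylow element. -/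
theorem sylow_shift {p : Nat} [Fact p.Prime] {s : G} (hs : s ∈ A) (hord : orderOf s = p)
    (hp2 : ¬ p ^ 2 ∣ Nat.card A) (θ : MulAut A) :
    ∃ c ∈ A, ∀ x ∈ A, (Commute (c * F θ x * c⁻¹) s ↔ Commute x s) := by
  haveI : Finite A := Nat.finite_of_card_ne_zero (fun h => hp2 (h ▸ dvd_zero _))
  have hsyl : ∀ a : A, orderOf a = p → ∃ P : Sylow p A, (P : Subgroup A) = Subgroup.zpowers a := by
    intro a ha
    have h1 : IsPGroup p (Subgroup.zpowers a) :=
      IsPGroup.of_card (n := 1) (by rw [Nat.card_zpowers, ha, pow_one])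
    obtain ⟨P, hP⟩ := h1.exists_le_sylow
    refine ⟨P, (Subgroup.eq_of_le_of_card_ge hP ?_).symm⟩
    rw [Nat.card_zpowers, ha, P.card_eq_multiplicity]
    calc p ^ (Nat.card A).factorization p ≤ p ^ 1 := by
          refine Nat.pow_le_pow_right (Fact.out : p.Prime).pos ?_
          by_contra hc
          exact hp2 ((pow_dvd_pow p (show 2 ≤ _ by omega)).trans (Nat.ordProj_dvd _ p))
      _ = p := pow_one _
  let a : A := ⟨s, hs⟩
  have ha : orderOf a = p := by rw [← Subgroup.orderOf_coe]; exact hord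
  obtain ⟨P, hP⟩ := hsyl a ha
  obtain ⟨R, hR⟩ := hsyl (θ a) (by rw [MulEquiv.orderOf_eq, ha])
  obtain ⟨c, hc⟩ := MulAction.exists_smul_eq A R P
  have hmem : a ∈ (MulAut.conj c : MulAut A) • Subgroup.zpowers (θ a) := by
    rw [← hR, ← Sylow.coe_subgroup_smul]
    show a ∈ ((c • R : Sylow p A) : Subgroup A)
    rw [hc, hP]
    exact Subgroup.mem_zpowers _
  obtain ⟨y, ⟨k, rfl⟩, hy⟩ := hmem
  have hy' : c * θ a ^ k * c⁻¹ = a := hy
  rw [← conj_zpow] at hy'
  have hb : c * θ a * c⁻¹ ∈ Subgroup.zpowers a := by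
    have hle : Subgroup.zpowers a ≤ Subgroup.zpowers (c * θ a * c⁻¹) :=
      Subgroup.zpowers_le.2 ⟨k, hy'⟩
    have he := Subgroup.eq_of_le_of_card_ge hle (le_of_eq (by
      rw [Nat.card_zpowers, Nat.card_zpowers, ha, show c * θ a * c⁻¹ = (MulAut.conj c) (θ a) from rfl,
        MulEquiv.orderOf_eq, MulEquiv.orderOf_eq, ha]))
    rw [he]; exact Subgroup.mem_zpowers _
  obtain ⟨j, hj⟩ := hb
  refine ⟨c, c.2, fun x hx => ?_⟩
  have e1 : (c : G) * F θ x * (c : G)⁻¹ = ((c * θ ⟨x, hx⟩ * c⁻¹ : A) : G) := by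
    rw [F_def hx]; rfl
  rw [e1, show s = ((a : A) : G) from rfl]
  have key : ∀ u v : A, Commute (u : G) v ↔ Commute u v := fun u v =>
    ⟨fun h => Subtype.ext h, fun h => congrArg Subtype.val h⟩
  refine ((key _ _).trans ?_).trans (key ⟨x, hx⟩ a).symm
  have key2 : ∀ u : A, Commute u (θ a) ↔ Commute (θ.symm u) a := fun u => by
    constructor
    · intro h; have := h.map θ.symm; rwa [MulEquiv.symm_apply_apply] at this
    · intro h; have := h.map θ; rwa [MulEquiv.apply_symm_apply] at this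
  constructor
  · intro h
    have h2 : Commute (c * θ ⟨x, hx⟩ * c⁻¹) (c * θ a * c⁻¹) := hj ▸ h.zpow_right j
    have h3 := (key2 _).1 ((Commute.conj_iff c).1 h2)
    rwa [MulEquiv.symm_apply_apply] at h3
  · intro h
    have h2 := ((Commute.conj_iff c).2 (h.map θ)).zpow_right k
    rwa [hy'] at h2

theorem F_sq {x : G} (hx : K x) : F θ x * F θ x = 1 := by
  rw [← F_mul (K_mem_A hx) (K_mem_A hx), K_sq hx, F_one]

/-- An involution centralising the element of order 13 and fixing a transposition there is a pair. -/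
theorem K_of_fix {u : G} (hA : u ∈ A) (hs : Commute u s13) (hu : u * u = 1) (hne : u ≠ 1)
    {i : Fin 3} (hfix : Commute u (P i)) : K u := by
  obtain ⟨r, hr, hri⟩ : ∃ r, Commute r s13 ∧ r * P i * r⁻¹ = L := by
    fin_cases i
    · exact ⟨1, Commute.one_left _, by simp [P]⟩
    · refine ⟨L * gen .k * L, (s13_comm_P 2).symm, ?_⟩
      show L * gen .k * L * gen .k * (L * gen .k * L)⁻¹ = L
      rw [LkL, mul_inv_rev, mul_inv_rev, gen_inv, gen_inv]
      calc gen .k * L * gen .k * gen .k * (gen .k * (L * gen .k))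
          = gen .k * L * (gen .k * gen .k) * (gen .k * (L * gen .k)) := by simp only [mul_assoc]
        _ = gen .k * (L * gen .k * L) * gen .k := by rw [gen_sq, mul_one]; simp only [mul_assoc]
        _ = gen .k * gen .k * L * (gen .k * gen .k) := by rw [LkL]; simp only [mul_assoc]
        _ = L := by rw [gen_sq, one_mul, mul_one]
    · refine ⟨gen .k, (s13_comm_P 1).symm, ?_⟩
      show gen .k * (L * gen .k * L) * (gen .k)⁻¹ = L
      rw [LkL, gen_inv]
      calc gen .k * (gen .k * L * gen .k) * gen .k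
          = gen .k * gen .k * L * (gen .k * gen .k) := by simp only [mul_assoc]
        _ = L := by rw [gen_sq, one_mul, mul_one]
  have hA' : r * u * r⁻¹ ∈ A := (inferInstance : A.Normal).conj_mem u hA r
  have hL : Commute (r * u * r⁻¹) L := by rw [← hri]; exact (Commute.conj_iff r).2 hfix
  obtain ⟨y, hy⟩ := exists_ξ hA' hL
  have hys : Commute y Fi23Out.s := by
    rw [← commute_ξ, hy]
    exact (hr.mul_left hs).mul_left hr.inv_left
  have hy2 : y * y = 1 := ξ_injective (by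
    rw [map_mul, hy, map_one]
    calc r * u * r⁻¹ * (r * u * r⁻¹) = r * (u * u) * r⁻¹ := by group
      _ = 1 := by rw [hu]; group)
  have hy1 : y ≠ 1 := fun e => hne (by
    rw [e, map_one] at hy
    exact conj_eq_one_iff.1 hy.symm)
  obtain ⟨g, hg⟩ := Fi23Out.conj_eq_z hys hy2 hy1
  have hy' : y = Fi23Out.tau (Fi23Out.im g⁻¹ 0) := by
    rw [← Fi23Out.conj_z_eq, ← hg]; group
  have hc : Fi23Out.im g⁻¹ 0 < 31671 := Fi23Out.im_lt _ (by norm_num)
  have hK : K (r * u * r⁻¹) := by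
    rw [← hy, hy', ξ_tau]
    exact ⟨_, L, T_mem hc, L_mem_D, T_comm_L _, T_ne_L hc, rfl⟩
  have := K_conj r⁻¹ hK
  rwa [show r⁻¹ * (r * u * r⁻¹) * r⁻¹⁻¹ = u by group] at this

/-- The bound on maps of a triangle. -/
theorem few_maps : Fintype.card {f : Fin 3 → Fin 3 // Function.Injective f} = 6 := by decide

theorem K_PQ (i j : Fin 3) : K (P i * Q j) :=
  ⟨P i, Q j, P_mem i, Q_mem j, P_comm_Q i j, fun e => by
    obtain ⟨i', hi'⟩ : ∃ i' : Fin 3, i' ≠ i := ⟨i + 1, by fin_cases i <;> decide⟩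
    exact P_not_commute hi' (e ▸ P_comm_Q i' j), rfl⟩

theorem not_dvd_13 : ¬ 13 ^ 2 ∣ Nat.card A := by
  rw [A, commutator_eq, card_ker]; norm_num

theorem not_dvd_11 : ¬ 11 ^ 2 ∣ Nat.card A := by
  rw [A, commutator_eq, card_ker]; norm_num

/-- Pairs go to pairs. -/
theorem K_map (θ : MulAut A) {x : G} (hx : K x) : K (F θ x) := by
  suffices h0 : ∃ z, K z ∧ K (F θ z) by
    obtain ⟨z, hz, hFz⟩ := h0
    obtain ⟨a, ha, rfl⟩ := K_rep hz
    obtain ⟨b, hb, rfl⟩ := K_rep hx
    have h1 := mul_mem_A L_mem_D (nd_mem 1)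
    rw [F_conj ha h1] at hFz
    have h2 := K_conj (F θ a)⁻¹ hFz
    rw [F_conj hb h1]
    refine K_conj _ ?_
    rwa [show (F θ a)⁻¹ * (F θ a * F θ (L * nd 1) * (F θ a)⁻¹) * (F θ a)⁻¹⁻¹ = F θ (L * nd 1) by
      group] at h2
  by_contra hno
  push Not at hno
  have : Fact (Nat.Prime 13) := ⟨by norm_num⟩
  obtain ⟨c, hc, hcs⟩ := sylow_shift (ξ_mem_A Fi23Out.s) s13_order not_dvd_13 θ
  let u : Fin 3 × Fin 3 → G := fun ij => c * F θ (P ij.1 * Q ij.2) * c⁻¹
  have hmem : ∀ ij : Fin 3 × Fin 3, P ij.1 * Q ij.2 ∈ A := fun ij => K_mem_A (K_PQ _ _)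
  have huA : ∀ ij, u ij ∈ A := fun ij => (inferInstance : A.Normal).conj_mem _ (F_mem (hmem ij)) c
  have hus : ∀ ij, Commute (u ij) s13 := fun ij => (hcs _ (hmem ij)).2
    ((s13_comm_P ij.1).symm.mul_left (s13_comm_Q ij.2).symm)
  have hu2 : ∀ ij, u ij * u ij = 1 := fun ij => by
    calc u ij * u ij = c * (F θ (P ij.1 * Q ij.2) * F θ (P ij.1 * Q ij.2)) * c⁻¹ := by
          simp only [u]; group
      _ = 1 := by rw [F_sq (K_PQ _ _)]; group
  have hu1 : ∀ ij, u ij ≠ 1 := fun ij e => by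
    have e1 : F θ (P ij.1 * Q ij.2) = F θ 1 := by
      rw [F_one]; exact conj_eq_one_iff.1 e
    obtain ⟨p, q, hp, hq, -, hne, e2⟩ := K_PQ ij.1 ij.2
    rw [F_inj (hmem ij) (one_mem A) e1] at e2
    exact hne (by rw [eq_inv_of_mul_eq_one_left e2.symm, D_inv hq])
  have hnotfix : ∀ ij i, ¬ Commute (u ij) (P i) := fun ij i h => hno _ (K_PQ ij.1 ij.2) (by
    have := K_conj c⁻¹ (K_of_fix (huA ij) (hus ij) (hu2 ij) (hu1 ij) h)
    rwa [show c⁻¹ * u ij * c⁻¹⁻¹ = F θ (P ij.1 * Q ij.2) by simp only [u]; group] at this)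
  have hback : ∀ ij e, u ij * (u ij * e * (u ij)⁻¹) * (u ij)⁻¹ = e := fun ij e => by
    rw [inv_eq_of_mul_eq_one_right (hu2 ij)]
    calc u ij * (u ij * e * u ij) * u ij = u ij * u ij * e * (u ij * u ij) := by group
      _ = e := by rw [hu2, one_mul, mul_one]
  have hsix : ∀ ij i, (∃ j, u ij * P i * (u ij)⁻¹ = P j) ∨ ∃ j, u ij * P i * (u ij)⁻¹ = Q j :=
    fun ij i => commute_s13 (D_conj _ (P_mem i)) (by
      have := (Commute.conj_iff (u ij)).2 (s13_comm_P i)
      rwa [(hus ij).eq, mul_inv_cancel_right] at this)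
  have hswap : ∀ ij i, ∃ j, u ij * P i * (u ij)⁻¹ = Q j := by
    intro ij i
    refine (hsix ij i).resolve_left ?_
    rintro ⟨j, hj⟩
    -- then the triangle is kept, and an involution of three letters fixes one
    have hall : ∀ i', ∃ j', u ij * P i' * (u ij)⁻¹ = P j' := by
      intro i'
      refine (hsix ij i').resolve_right ?_
      rintro ⟨j', hj'⟩
      have h : Commute (u ij * P i * (u ij)⁻¹) (u ij * P i' * (u ij)⁻¹) := by
        rw [hj, hj']; exact P_comm_Q j j'
      by_cases e : i = i'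
      · subst e
        rw [hj] at hj'
        obtain ⟨k, hk⟩ : ∃ k : Fin 3, k ≠ j := ⟨j + 1, by fin_cases j <;> decide⟩
        exact P_not_commute hk (hj' ▸ P_comm_Q k j')
      · exact P_not_commute e ((Commute.conj_iff _).1 h)
    choose f hf using hall
    have hff : ∀ i', f (f i') = i' := fun i' => by
      by_contra h
      apply P_not_commute h
      rw [show P (f (f i')) = P i' by rw [← hf (f i'), ← hf i', hback]]
    obtain ⟨k, hk⟩ : ∃ k, f k = k :=
      (show ∀ f : Fin 3 → Fin 3, (∀ i, f (f i) = i) → ∃ k, f k = k by decide) f hff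
    refine hnotfix ij k ?_
    have := hf k
    rw [hk] at this
    exact eq_mul_of_mul_inv_eq this
  choose σ hσ using hswap
  have hσinj : ∀ ij, Function.Injective (σ ij) := fun ij a b e => by
    by_contra h
    have h1 : u ij * P a * (u ij)⁻¹ = u ij * P b * (u ij)⁻¹ := by rw [hσ, hσ, e]
    exact P_not_commute h (by rw [mul_left_cancel (mul_right_cancel h1)])
  obtain ⟨p, q, hpq, hσeq⟩ : ∃ p q, p ≠ q ∧ σ p = σ q := by
    by_contra h
    push Not at h
    have := Fintype.card_le_of_injective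
      (fun ij => (⟨σ ij, hσinj ij⟩ : {f : Fin 3 → Fin 3 // Function.Injective f}))
      (fun a b e => by
        by_contra hne
        exact h a b hne (congrArg Subtype.val e))
    rw [few_maps] at this
    simp at this
  -- the quotient of the two fixes all six
  have hwP : ∀ i, Commute (u p * u q) (P i) := fun i => by
    have h1 : u q * P i * (u q)⁻¹ = Q (σ p i) := by rw [hσ, hσeq]
    have h2 : u p * Q (σ p i) * (u p)⁻¹ = P i := by rw [← hσ p i, hback]
    refine eq_mul_of_mul_inv_eq ?_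
    calc u p * u q * P i * (u p * u q)⁻¹ = u p * (u q * P i * (u q)⁻¹) * (u p)⁻¹ := by group
      _ = P i := by rw [h1, h2]
  have hwQ : ∀ j, Commute (u p * u q) (Q j) := fun j => by
    obtain ⟨i, rfl⟩ := (Finite.injective_iff_surjective.1 (hσinj p)) j
    have h1 : u q * Q (σ p i) * (u q)⁻¹ = P i := by rw [hσeq, ← hσ q i, hback]
    refine eq_mul_of_mul_inv_eq ?_
    calc u p * u q * Q (σ p i) * (u p * u q)⁻¹
        = u p * (u q * Q (σ p i) * (u q)⁻¹) * (u p)⁻¹ := by group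
      _ = Q (σ p i) := by rw [h1, hσ]
  obtain ⟨y, hy⟩ := exists_ξ (mul_mem (huA p) (huA q)) (hwP 0)
  have hys : Commute y Fi23Out.s := by
    rw [← commute_ξ, hy]; exact (hus p).mul_left (hus q)
  obtain ⟨j, hj, rfl⟩ := Fi23Out.eq_pow_of_fix hys
    ((commute_ξ_T (by norm_num)).1 (hy ▸ hwQ 0)) ((commute_ξ_T w1_lt).1 (hy ▸ hwQ 1))
    ((commute_ξ_T w2_lt).1 (hy ▸ hwQ 2))
  have hcube : (u p * u q) ^ 3 = 1 := by
    have e1 : u p * u q = c * (F θ (P p.1 * Q p.2) * F θ (P q.1 * Q q.2)) * c⁻¹ := by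
      simp only [u]; group
    have hcub : ∀ {d e : G}, d ∈ D → e ∈ D → (d = e ∨ ¬ Commute d e) → (d * e) ^ 3 = 1 := by
      intro d e hd he h
      rcases h with rfl | h
      · rw [D_sq hd, one_pow]
      · exact cube_of_not_commute hd he h
    have e2 : (P p.1 * Q p.2 * (P q.1 * Q q.2)) ^ 3 = 1 := by
      have hcomm : Commute (P p.1 * P q.1) (Q p.2 * Q q.2) :=
        ((P_comm_Q _ _).mul_right (P_comm_Q _ _)).mul_left ((P_comm_Q _ _).mul_right (P_comm_Q _ _))
      have e3 : P p.1 * Q p.2 * (P q.1 * Q q.2) = P p.1 * P q.1 * (Q p.2 * Q q.2) := by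
        calc P p.1 * Q p.2 * (P q.1 * Q q.2) = P p.1 * (Q p.2 * P q.1) * Q q.2 := by
              simp only [mul_assoc]
          _ = P p.1 * (P q.1 * Q p.2) * Q q.2 := by rw [(P_comm_Q q.1 p.2).eq]
          _ = _ := by simp only [mul_assoc]
      rw [e3, hcomm.mul_pow, hcub (P_mem _) (P_mem _), hcub (Q_mem _) (Q_mem _), one_mul]
      · by_cases e : p.2 = q.2
        exacts [Or.inl (by rw [e]), Or.inr (Q_not_commute e)]
      · by_cases e : p.1 = q.1
        exacts [Or.inl (by rw [e]), Or.inr (P_not_commute e)]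
    rw [e1, ← F_mul (hmem p) (hmem q), conj_pow]
    have e4 := congrArg (F θ) e2
    rw [pow_succ, pow_succ, pow_one, F_mul (mul_mem (mul_mem (hmem p) (hmem q))
      (mul_mem (hmem p) (hmem q))) (mul_mem (hmem p) (hmem q)), F_mul (mul_mem (hmem p) (hmem q))
      (mul_mem (hmem p) (hmem q)), F_one] at e4
    rw [pow_succ, pow_succ, pow_one, e4, mul_one, mul_inv_cancel]
  have hj0 : j = 0 := by
    have h : Fi23Out.s ^ (j * 3) = 1 := ξ_injective (by rw [pow_mul, map_pow, hy, hcube, map_one])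
    have hd := orderOf_dvd_of_pow_eq_one h
    rw [Fi23Out.s_order] at hd
    omega
  rw [hj0, pow_zero, map_one] at hy
  have hupq : u p = u q := by
    rw [← inv_eq_of_mul_eq_one_right (hu2 q)]
    exact eq_inv_of_mul_eq_one_left hy.symm
  have hFF : F θ (P p.1 * Q p.2) = F θ (P q.1 * Q q.2) := mul_left_cancel (mul_right_cancel hupq)
  have hx' := F_inj (hmem p) (hmem q) hFF
  have hQP : ∀ i j, P i ≠ Q j := fun i j e => by
    obtain ⟨i', hi'⟩ : ∃ i' : Fin 3, i' ≠ i := ⟨i + 1, by fin_cases i <;> decide⟩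
    exact P_not_commute hi' (e ▸ P_comm_Q i' j)
  have h1 : P p.1 = P q.1 := (pair_unique (P_mem _) (Q_mem _) (P_mem _) (Q_mem _) (P_comm_Q _ _)
    (P_comm_Q _ _) (hQP _ _) hx').resolve_right (hQP _ _)
  have h2 : Q p.2 = Q q.2 := by
    rw [h1] at hx'; exact mul_left_cancel hx'
  refine hpq (Prod.ext ?_ ?_)
  · by_contra e; exact P_not_commute e (h1 ▸ Commute.refl _)
  · by_contra e; exact Q_not_commute e (h2 ▸ Commute.refl _)

end Cfsg.Agent.Fi24Out
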