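import Cfsg.Agent.Fi24Out.Image
import Cfsg.Prelude.Def_KGroupFacts

/-!
# The outer automorphism group of the commutator subgroup of Fi24 has order 2

Triangles of pairs go to triangles, hence an automorphism can be moved to keep Fi23, then to fix it
pointwise, and then it is the identity or conjugation by `l`.
-/

set_option maxRecDepth 100000
set_option autoImplicit false

namespace Cfsg.Agent.Fi24Out

open Cfsg.Agent.CosetCert Cfsg.Agent.Fi24

variable {θ : MulAut A}

/-- A pair centralising the element of order 11. -/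
theorem K_s11 {x : G} (hx : K x) (hc : Commute x s11) :
    x = L * T 0 ∨ x = L * T 8003 ∨ x = T 0 * T 8003 := by
  obtain ⟨p, q, hp, hq, hpq, hne, rfl⟩ := hx
  have e : s11 * p * s11⁻¹ * (s11 * q * s11⁻¹) = p * q := by
    calc _ = s11 * (p * q) * s11⁻¹ := by group
      _ = p * q := by rw [← hc.eq, mul_inv_cancel_right]
  have hne' : s11 * p * s11⁻¹ ≠ s11 * q * s11⁻¹ := fun h =>
    hne (mul_left_cancel (mul_right_cancel h))
  have hp' : Commute s11 p := by
    rcases pair_unique (D_conj _ hp) (D_conj _ hq) hp hq ((Commute.conj_iff _).2 hpq) hpq hne e with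
      h | h
    · exact eq_mul_of_mul_inv_eq h
    · exfalso
      have h' : s11 * q * s11⁻¹ = p := by
        rw [h, hpq.eq] at e; exact mul_left_cancel e
      have h2 : Commute (s11 ^ 2) p := by
        refine eq_mul_of_mul_inv_eq ?_
        calc s11 ^ 2 * p * (s11 ^ 2)⁻¹ = s11 * (s11 * p * s11⁻¹) * s11⁻¹ := by rw [pow_two]; group
          _ = p := by rw [h, h']
      have h3 := h2.pow_left 6
      rw [← pow_mul, show 2 * 6 = 11 + 1 from rfl, pow_succ,
        show s11 ^ 11 = 1 by rw [← s11_order]; exact pow_orderOf_eq_one _, one_mul] at h3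
      apply hne
      rw [← h, h3.eq, mul_inv_cancel_right]
  have hq' : Commute s11 q := by
    have := hp'.mul_right hc.symm
    rwa [← mul_assoc, D_sq hp, one_mul] at this
  rcases commute_s11 hp hp' with rfl | rfl | rfl <;>
    rcases commute_s11 hq hq' with rfl | rfl | rfl
  all_goals first
    | exact absurd rfl hne
    | exact Or.inl rfl
    | exact Or.inr (Or.inl rfl)
    | exact Or.inr (Or.inr rfl)
    | exact Or.inl (T_comm_L 0).eq
    | exact Or.inr (Or.inl (T_comm_L 8003).eq)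
    | exact Or.inr (Or.inr T0_comm_T8003.eq.symm)

/-- Three transpositions, each two commuting and distinct. -/
structure Tri (p q r : G) : Prop where
  mp : p ∈ D
  mq : q ∈ D
  mr : r ∈ D
  pq : Commute p q
  pr : Commute p r
  qr : Commute q r
  npq : p ≠ q
  npr : p ≠ r
  nqr : q ≠ r

theorem Tri.symm12 {p q r : G} (h : Tri p q r) : Tri q p r :=
  ⟨h.mq, h.mp, h.mr, h.pq.symm, h.qr, h.pr, h.npq.symm, h.nqr, h.npr⟩

theorem Tri.symm23 {p q r : G} (h : Tri p q r) : Tri p r q :=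
  ⟨h.mp, h.mr, h.mq, h.pr, h.pq, h.qr.symm, h.npr, h.npq, h.nqr.symm⟩

theorem Tri.conj {p q r : G} (h : Tri p q r) (g : G) :
    Tri (g * p * g⁻¹) (g * q * g⁻¹) (g * r * g⁻¹) := by
  have hi : ∀ {a b : G}, a ≠ b → g * a * g⁻¹ ≠ g * b * g⁻¹ := fun h e =>
    h (mul_left_cancel (mul_right_cancel e))
  exact ⟨D_conj g h.mp, D_conj g h.mq, D_conj g h.mr, (Commute.conj_iff g).2 h.pq,
    (Commute.conj_iff g).2 h.pr, (Commute.conj_iff g).2 h.qr, hi h.npq, hi h.npr, hi h.nqr⟩

theorem Tri.pair {p q r : G} (h : Tri p q r) : K (p * q) :=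
  ⟨p, q, h.mp, h.mq, h.pq, h.npq, rfl⟩

theorem tri_R3 : Tri L (T 0) (T 8003) :=
  ⟨L_mem_D, T_mem (by norm_num), T_mem (by norm_num), (T_comm_L _).symm, (T_comm_L _).symm,
    T0_comm_T8003, (T_ne_L (by norm_num)).symm, (T_ne_L (by norm_num)).symm,
    fun e => by have := T_inj (by norm_num) (by norm_num) e; omega⟩

/-- An edge of a triangle. -/
theorem tri_edges {p q r : G} (h : Tri p q r) {x y : G} (hne : x ≠ y)
    (hx : x = p * q ∨ x = p * r ∨ x = q * r) (hy : y = p * q ∨ y = p * r ∨ y = q * r) :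
    ∃ p' q' r', Tri p' q' r' ∧ x = p' * q' ∧ y = p' * r' := by
  rcases hx with rfl | rfl | rfl <;> rcases hy with rfl | rfl | rfl
  · exact absurd rfl hne
  · exact ⟨p, q, r, h, rfl, rfl⟩
  · exact ⟨q, p, r, h.symm12, h.pq.eq, rfl⟩
  · exact ⟨p, r, q, h.symm23, rfl, rfl⟩
  · exact absurd rfl hne
  · exact ⟨r, p, q, h.symm23.symm12, h.pr.eq, h.qr.eq⟩
  · exact ⟨q, r, p, h.symm12.symm23, rfl, h.pq.eq⟩
  · exact ⟨r, q, p, h.symm23.symm12.symm23, h.qr.eq, h.pr.eq⟩
  · exact absurd rfl hne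

/-- Triangles go to triangles. -/
theorem triangle_image (θ : MulAut A) {p q r : G} (h : Tri p q r) :
    ∃ p' q' r', Tri p' q' r' ∧ F θ (p * q) = p' * q' ∧ F θ (p * r) = p' * r' := by
  obtain ⟨g, hg, rfl, rfl, rfl⟩ := triple_to h.mp h.mq h.mr h.pq h.pr h.qr h.npq h.npr h.nqr
  have hR := tri_R3
  obtain ⟨v, hv, v0, v1, v2⟩ :=
    triple_to hR.mp hR.mq hR.mr hR.pq hR.pr hR.qr hR.npq hR.npr hR.nqr
  have : Fact (Nat.Prime 11) := ⟨by norm_num⟩
  obtain ⟨c, hc, hcs⟩ := sylow_shift (ξ_mem_A y11) s11_order not_dvd_11 θ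
  -- the shifted images of the two edges at `l`
  have key : ∀ e, e ∈ D → Commute L e → L ≠ e → Commute (L * e) s11 →
      c * F θ (L * e) * c⁻¹ = L * T 0 ∨ c * F θ (L * e) * c⁻¹ = L * T 8003 ∨
        c * F θ (L * e) * c⁻¹ = T 0 * T 8003 := fun e he hLe hne hs => by
    have hk : K (L * e) := ⟨L, e, L_mem_D, he, hLe, hne, rfl⟩
    exact K_s11 (K_conj c (K_map θ hk)) ((hcs _ (K_mem_A hk)).2 hs)
  have hs0 := (s11_comm L (by simp [R3])).2
  have hs1 := (s11_comm (T 0) (by simp [R3])).2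
  have hs2 := (s11_comm (T 8003) (by simp [R3])).2
  have k1 := key (T 0) hR.mq hR.pq hR.npq (hs0.mul_right hs1).symm
  have k2 := key (T 8003) hR.mr hR.pr hR.npr (hs0.mul_right hs2).symm
  have hne : c * F θ (L * T 0) * c⁻¹ ≠ c * F θ (L * T 8003) * c⁻¹ := fun e => hR.nqr
    (mul_left_cancel (F_inj (mul_mem_A hR.mp hR.mq) (mul_mem_A hR.mp hR.mr)
      (mul_left_cancel (mul_right_cancel e))))
  obtain ⟨p', q', r', ht, e1, e2⟩ := tri_edges hR hne k1 k2
  -- carry back
  have hb : ∀ a b : G, a ∈ D → b ∈ D → F θ (g * a * g⁻¹ * (g * b * g⁻¹)) =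
      F θ (g * v⁻¹) * (c⁻¹ * (c * F θ (v * a * v⁻¹ * (v * b * v⁻¹)) * c⁻¹) * c) *
        (F θ (g * v⁻¹))⁻¹ := fun a b ha hb => by
    rw [show c⁻¹ * (c * F θ (v * a * v⁻¹ * (v * b * v⁻¹)) * c⁻¹) * c =
      F θ (v * a * v⁻¹ * (v * b * v⁻¹)) by group]
    rw [← F_conj (mul_mem hg (inv_mem hv)) (mul_mem_A (D_conj v ha) (D_conj v hb))]
    congr 1
    group
  have f1 := hb L (nd 1) L_mem_D (nd_mem 1)
  have f2 := hb L (nd 3) L_mem_D (nd_mem 3)
  rw [v0, v1, e1] at f1
  rw [v0, v2, e2] at f2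
  refine ⟨_, _, _, (ht.conj c⁻¹).conj (F θ (g * v⁻¹)), f1.trans ?_, f2.trans ?_⟩ <;> group

/-- Across a node. -/
theorem nd_tri {x y z : Nat} (hx : x < 10) (hy : y < 10) (hz : z < 10) (hxy : x ≠ y) (hxz : x ≠ z)
    (hyz : y ≠ z) (h1 : Commute (nd x) (nd y)) (h2 : Commute (nd x) (nd z))
    (h3 : Commute (nd y) (nd z)) : Tri (nd x) (nd y) (nd z) :=
  ⟨nd_mem x, nd_mem y, nd_mem z, h1, h2, h3, fun e => hxy (nd_inj hx hy e),
    fun e => hxz (nd_inj hx hz e), fun e => hyz (nd_inj hy hz e)⟩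

theorem L_tri {x y : Nat} (hx : x < 10) (hy : y < 10) (hxy : x ≠ y)
    (h : Commute (nd x) (nd y)) : Tri L (nd x) (nd y) :=
  ⟨L_mem_D, nd_mem x, nd_mem y, (nd_comm_L x).symm, (nd_comm_L y).symm, h,
    (nd_ne_L x hx).symm, (nd_ne_L y hy).symm, fun e => hxy (nd_inj hx hy e)⟩

/-- The image of `l` times a node is such a product. -/
def Good (θ : MulAut A) (x : Nat) : Prop :=
  ∃ x', x' ∈ D ∧ Commute L x' ∧ L ≠ x' ∧ F θ (L * nd x) = L * x'

theorem good_step {x y z : Nat} (hx : x < 10) (hy : y < 10) (hz : z < 10) (hxy : x ≠ y)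
    (hxz : x ≠ z) (hyz : y ≠ z) (hc : Commute (nd x) (nd y)) (hcx : Commute (nd x) (nd z))
    (hcy : Commute (nd y) (nd z)) (gx : Good θ x) (gy : Good θ y) : Good θ z := by
  obtain ⟨x', mx, cx, nx, ex⟩ := gx
  obtain ⟨y', my, cy, ny, ey⟩ := gy
  have hAx := mul_mem_A L_mem_D (nd_mem x)
  have hAy := mul_mem_A L_mem_D (nd_mem y)
  have hxy' : F θ (nd x * nd y) = x' * y' := by
    have e : nd x * nd y = L * nd x * (L * nd y) := by
      rw [(nd_comm_L x).symm.eq, mul_assoc, ← mul_assoc L L, gen_sq, one_mul]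
    rw [e, F_mul hAx hAy, ex, ey, cx.eq, mul_assoc, ← mul_assoc L L, gen_sq, one_mul]
  have hnxy : x' ≠ y' := fun e => hxy (nd_inj hx hy (mul_left_cancel
    (F_inj hAx hAy (by rw [ex, ey, e]))))
  -- the image contains `x'` or `l`, and `y'` or `l`
  have contains : ∀ {w : Nat} {w' : G}, w < 10 → w ≠ z → Commute (nd w) (nd z) → w' ∈ D →
      Commute L w' → L ≠ w' → F θ (L * nd w) = L * w' →
      ∃ a b, a ∈ D ∧ b ∈ D ∧ Commute a b ∧ a ≠ b ∧ F θ (L * nd z) = a * b ∧ (a = L ∨ a = w') := by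
    intro w w' hw hwz hcw mw cw nw ew
    obtain ⟨p', q', r', ht, e1, e2⟩ := triangle_image θ (L_tri hw hz hwz hcw)
    exact ⟨p', r', ht.mp, ht.mr, ht.pr, ht.npr, e2,
      pair_unique ht.mp ht.mq L_mem_D mw ht.pq cw nw (e1.symm.trans ew)⟩
  obtain ⟨a, b, ma, mb, cab, nab, eab, ha⟩ := contains hx hxz hcx mx cx nx ex
  rcases ha with rfl | rfl
  · exact ⟨b, mb, cab, nab, eab⟩
  obtain ⟨a', b', ma', mb', cab', nab', eab', ha'⟩ := contains hy hyz hcy my cy ny ey
  rcases ha' with rfl | rfl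
  · exact ⟨b', mb', cab', nab', eab'⟩
  exfalso
  -- the image is `x' * y'`
  have hb : a' = b := by
    rcases pair_unique ma' mb' ma mb cab' cab nab (eab'.symm.trans eab) with h | h
    · exact absurd h.symm hnxy
    · exact h
  subst hb
  have e := F_inj (mul_mem_A L_mem_D (nd_mem z)) (mul_mem_A (nd_mem x) (nd_mem y))
    (eab.trans hxy'.symm)
  rcases pair_unique L_mem_D (nd_mem z) (nd_mem x) (nd_mem y) (nd_comm_L z).symm hc
    (fun h => hxy (nd_inj hx hy h)) e with h | h
  exacts [nd_ne_L x hx h.symm, nd_ne_L y hy h.symm]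

theorem good_all (h1 : Good θ 1) (h3 : Good θ 3) : ∀ x, x < 10 → Good θ x := by
  have st : ∀ x y z : Nat, x < 10 → y < 10 → z < 10 → x ≠ y → x ≠ z → y ≠ z →
      Cfsg.Spor.coxLabel Cfsg.Spor.Fi24.edges (node (Fi23Out.letter x)) (node (Fi23Out.letter y)) = 2 →
      Cfsg.Spor.coxLabel Cfsg.Spor.Fi24.edges (node (Fi23Out.letter x)) (node (Fi23Out.letter z)) = 2 →
      Cfsg.Spor.coxLabel Cfsg.Spor.Fi24.edges (node (Fi23Out.letter y)) (node (Fi23Out.letter z)) = 2 →
      Good θ x → Good θ y → Good θ z :=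
    fun x y z hx hy hz a b c d e f => good_step hx hy hz a b c (nd_commute d) (nd_commute e)
      (nd_commute f)
  have h5 : Good θ 5 := st 1 3 5 (by decide) (by decide) (by decide) (by decide) (by decide)
    (by decide) (by decide) (by decide) (by decide) h1 h3
  have h6 : Good θ 6 := st 1 3 6 (by decide) (by decide) (by decide) (by decide) (by decide)
    (by decide) (by decide) (by decide) (by decide) h1 h3
  have h7 : Good θ 7 := st 1 3 7 (by decide) (by decide) (by decide) (by decide) (by decide)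
    (by decide) (by decide) (by decide) (by decide) h1 h3
  have h9 : Good θ 9 := st 1 3 9 (by decide) (by decide) (by decide) (by decide) (by decide)
    (by decide) (by decide) (by decide) (by decide) h1 h3
  have h0 : Good θ 0 := st 3 9 0 (by decide) (by decide) (by decide) (by decide) (by decide)
    (by decide) (by decide) (by decide) (by decide) h3 h9
  have h8 : Good θ 8 := st 1 5 8 (by decide) (by decide) (by decide) (by decide) (by decide)
    (by decide) (by decide) (by decide) (by decide) h1 h5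
  have h4 : Good θ 4 := st 1 6 4 (by decide) (by decide) (by decide) (by decide) (by decide)
    (by decide) (by decide) (by decide) (by decide) h1 h6
  have h2 : Good θ 2 := st 5 9 2 (by decide) (by decide) (by decide) (by decide) (by decide)
    (by decide) (by decide) (by decide) (by decide) h5 h9
  intro x hx
  interval_cases x <;> assumption

theorem ξ_gen' (x : Nat) : ξ (Fi23Out.gen x) = L * nd x := by
  rw [ξ_gen, (nd_comm_L x).eq]

/-- An automorphism may be moved to fix Fi23. -/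
theorem exists_fix_ξ (θ : MulAut A) :
    ∃ g : G, ∀ y : G23, g * F θ (ξ y) * g⁻¹ = ξ y := by
  obtain ⟨p, q, r, ht, e1, e2⟩ := triangle_image θ
    (L_tri (x := 1) (y := 3) (by norm_num) (by norm_num) (by norm_num) nd_one_three)
  obtain ⟨g, -, g0, g1, g3⟩ := triple_to ht.mp ht.mq ht.mr ht.pq ht.pr ht.qr ht.npq ht.npr ht.nqr
  let θ' : MulAut A := MulAut.conjNormal g⁻¹ * θ
  have hF : ∀ x, x ∈ A → F θ' x = g⁻¹ * F θ x * g := fun x hx => by
    rw [F_def hx, F_def hx]
    show (MulAut.conjNormal g⁻¹ (θ ⟨x, hx⟩) : G) = _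
    rw [MulAut.conjNormal_apply, inv_inv]
  have hgood : Good θ' 1 ∧ Good θ' 3 := by
    constructor
    · refine ⟨nd 1, nd_mem 1, (nd_comm_L 1).symm, (nd_ne_L 1 (by norm_num)).symm, ?_⟩
      rw [hF _ (mul_mem_A L_mem_D (nd_mem 1)), e1, ← g0, ← g1]; group
    · refine ⟨nd 3, nd_mem 3, (nd_comm_L 3).symm, (nd_ne_L 3 (by norm_num)).symm, ?_⟩
      rw [hF _ (mul_mem_A L_mem_D (nd_mem 3)), e2, ← g0, ← g3]; group
  have hrange : ∀ y : G23, F θ' (ξ y) ∈ ξ.range := by
    intro y
    have hmem : y ∈ Subgroup.closure (Set.range (PresentedGroup.of : Cfsg.Spor.Fi23.Gen → G23)) := by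
      rw [PresentedGroup.closure_range_of]; trivial
    induction hmem using Subgroup.closure_induction with
    | mem s hs =>
      obtain ⟨a, rfl⟩ := hs
      obtain ⟨x, hx, rfl⟩ := Fi23Out.letter_surj a
      show F θ' (ξ (Fi23Out.gen x)) ∈ _
      obtain ⟨x', mx, cx, -, ex⟩ := good_all hgood.1 hgood.2 x hx
      obtain ⟨y, hy⟩ := exists_ξ (mul_mem_A L_mem_D mx) ((Commute.refl L).mul_left cx.symm)
      exact ⟨y, by rw [hy, ξ_gen', ex]⟩
    | one => rw [map_one, F_one]; exact one_mem _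
    | mul a b _ _ ha hb => rw [map_mul, F_mul (ξ_mem_A a) (ξ_mem_A b)]; exact mul_mem ha hb
    | inv a _ ha => rw [map_inv, F_inv (ξ_mem_A a)]; exact inv_mem ha
  choose f hf using hrange
  let φ23 : G23 →* G23 := MonoidHom.mk' f fun a b => ξ_injective (by
    rw [hf, map_mul, map_mul, F_mul (ξ_mem_A a) (ξ_mem_A b), hf, hf])
  have hinj : Function.Injective φ23 := fun a b e => ξ_injective
    (F_inj (θ := θ') (ξ_mem_A a) (ξ_mem_A b) (by rw [← hf, ← hf]; exact congrArg ξ e))
  obtain ⟨h, hh⟩ := Fi23Out.exists_inner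
    (MulEquiv.ofBijective φ23 ⟨hinj, Finite.injective_iff_surjective.1 hinj⟩)
  refine ⟨ξ h * g⁻¹, fun y => ?_⟩
  have e : h * f y * h⁻¹ = y := DFunLike.congr_fun hh y
  have e' := congrArg ξ e
  rw [map_mul, map_mul, map_inv, hf, hF _ (ξ_mem_A y)] at e'
  calc ξ h * g⁻¹ * F θ (ξ y) * (ξ h * g⁻¹)⁻¹ = ξ h * (g⁻¹ * F θ (ξ y) * g) * (ξ h)⁻¹ := by group
    _ = ξ y := e'

theorem nd_k_commute {x : Nat} (h0 : 0 < x) (hx : x < 10) : Commute (gen .k) (nd x) := by
  refine gen_commute ?_
  interval_cases x <;> decide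

theorem k_ne_nd {x : Nat} : gen .k ≠ nd x := fun e => k_not_comm (by rw [e]; exact nd_comm_L x)

/-- Fixing Fi23, the identity or conjugation by `l`. -/
theorem fix_cases (hfix : ∀ y : G23, F θ (ξ y) = ξ y) :
    F θ (gen .k * nd 2) = gen .k * nd 2 ∨ F θ (gen .k * nd 2) = L * (gen .k * nd 2) * L := by
  have hprod : ∀ x y : Nat, F θ (nd x * nd y) = nd x * nd y := fun x y => by
    have e : nd x * nd y = ξ (Fi23Out.gen x * Fi23Out.gen y) := by
      rw [map_mul, ξ_gen, ξ_gen', mul_assoc, ← mul_assoc L L, gen_sq, one_mul]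
    rw [e, hfix]
  have hcomm : ∀ x y : Nat, Cfsg.Spor.coxLabel Cfsg.Spor.Fi24.edges
      (node (Fi23Out.letter x)) (node (Fi23Out.letter y)) = 2 → Commute (nd x) (nd y) :=
    fun x y h => nd_commute h
  -- one of the two members
  have member : ∀ y, y < 10 → 0 < y → y ≠ 2 → Commute (nd 2) (nd y) →
      ∃ a b, a ∈ D ∧ b ∈ D ∧ Commute a b ∧ a ≠ b ∧ F θ (gen .k * nd 2) = a * b ∧
        (b = nd 2 ∨ b = nd y) := by
    intro y hy hy0 hy2 hc
    have hT : Tri (nd 2) (gen .k) (nd y) :=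
      ⟨nd_mem 2, k_mem_D, nd_mem y, (nd_k_commute (by norm_num) (by norm_num)).symm, hc,
        nd_k_commute hy0 hy, k_ne_nd.symm, fun e => hy2 (nd_inj hy (by norm_num) e.symm),
        k_ne_nd⟩
    obtain ⟨p', q', r', ht, e1, e2⟩ := triangle_image θ hT
    rw [hprod] at e2
    refine ⟨q', p', ht.mq, ht.mp, ht.pq.symm, ht.npq.symm, ?_,
      pair_unique ht.mp ht.mr (nd_mem 2) (nd_mem y) ht.pr hc
        (fun e => hy2 (nd_inj hy (by norm_num) e.symm)) e2.symm⟩
    rw [(nd_k_commute (by norm_num) (by norm_num)).eq, e1, ht.pq.eq]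
  obtain ⟨k', hk, hkc, ek⟩ : ∃ k', k' ∈ D ∧ Commute k' (nd 2) ∧
      F θ (gen .k * nd 2) = k' * nd 2 := by
    obtain ⟨a, b, ma, mb, cab, nab, eab, hb⟩ := member 4 (by norm_num) (by norm_num) (by norm_num)
      (hcomm 2 4 (by decide))
    rcases hb with rfl | rfl
    · exact ⟨a, ma, cab, eab⟩
    obtain ⟨a', b', ma', mb', cab', nab', eab', hb'⟩ :=
      member 5 (by norm_num) (by norm_num) (by norm_num) (hcomm 2 5 (by decide))
    rcases hb' with rfl | rfl
    · exact ⟨a', ma', cab', eab'⟩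
    exfalso
    have hne : nd 5 ≠ nd 4 := fun e => absurd (nd_inj (by norm_num) (by norm_num) e) (by norm_num)
    have e : nd 5 * a' = a * nd 4 := by rw [← cab'.eq, ← eab', eab]
    rcases pair_unique (nd_mem 5) ma' ma (nd_mem 4) cab'.symm cab nab e with h | h
    · have h54 : Commute (nd 5) (nd 4) := by rw [h]; exact cab
      have hb := braid (x := node (Fi23Out.letter 5)) (y := node (Fi23Out.letter 4)) (by decide)
      change nd 5 * nd 4 * nd 5 = nd 4 * nd 5 * nd 4 at hb
      rw [h54.eq] at hb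
      exact hne (mul_left_cancel hb)
    · exact hne h
  -- `k'` commutes with all nodes but `a`
  have hall : ∀ x, 0 < x → x < 10 → Commute k' (nd x) := by
    intro x h0 hx
    have e : gen .k * nd x = gen .k * nd 2 * (nd 2 * nd x) := by
      rw [mul_assoc, ← mul_assoc (nd 2), D_sq (nd_mem 2), one_mul]
    have e' : F θ (gen .k * nd x) = k' * nd x := by
      rw [e, F_mul (mul_mem_A k_mem_D (nd_mem 2)) (mul_mem_A (nd_mem 2) (nd_mem x)), ek, hprod,
        mul_assoc, ← mul_assoc (nd 2), D_sq (nd_mem 2), one_mul]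
    have hK : K (gen .k * nd x) :=
      ⟨_, _, k_mem_D, nd_mem x, nd_k_commute h0 hx, k_ne_nd, rfl⟩
    have h2 := F_sq (θ := θ) hK
    rw [e'] at h2
    show k' * nd x = nd x * k'
    exact (eq_inv_of_mul_eq_one_left h2).trans (by rw [mul_inv_rev, D_inv hk, D_inv (nd_mem x)])
  have hs : Commute s13 k' := by
    rw [s13_eq]
    have key : ∀ w : List Nat, (∀ x ∈ w, 0 < x ∧ x < 10) → Commute k' (el (w.map node23)) := by
      intro w
      induction w with
      | nil => intro _; rw [List.map_nil, el_nil]; exact Commute.one_right _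
      | cons x t ih =>
        intro h
        obtain ⟨h0, hx⟩ := h x (List.mem_cons_self ..)
        rw [List.map_cons, show node23 x :: t.map node23 = [node23 x] ++ t.map node23 from rfl,
          el_append, el_single (node23_lt x), node23, (Fi24Index.spells.enc_lt _).2]
        refine Commute.mul_right ?_ (ih fun y hy => h y (List.mem_cons_of_mem _ hy))
        have := hall x h0 hx
        rwa [nd, ← show (Fi23Index31671.dec x).1 = Fi23Out.letter x by
          rw [(Fi23Out.letter_spec x hx).2.1]] at this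
    exact (key _ (by decide)).symm
  rcases commute_s13 hk hs with ⟨i, rfl⟩ | ⟨i, rfl⟩
  · fin_cases i
    · exfalso
      have e : F θ (L * nd 2) = L * nd 2 := by rw [← ξ_gen', hfix]
      have := mul_right_cancel
        (F_inj (mul_mem_A k_mem_D (nd_mem 2)) (mul_mem_A L_mem_D (nd_mem 2)) (ek.trans e.symm))
      exact k_not_comm (by rw [this])
    · left; exact ek
    · right
      refine ek.trans ?_
      show L * gen .k * L * nd 2 = L * (gen .k * nd 2) * L
      rw [mul_assoc, ← (nd_comm_L 2).eq]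
      simp only [mul_assoc]
  · exfalso
    have hex : ∃ x, 0 < x ∧ x < 10 ∧ ¬ Commute (Q i) (nd x) := by
      have bad : ∀ c, c < 31671 → ∀ x, x < 10 → Fi23Index31671.data.T c x ≠ c →
          ¬ Commute (T c) (nd x) := by
        intro c hc x hx hne h
        rw [← T_pt hx, commute_T, ← Fi23Out.gen_eq_tau x hx] at h
        exact hne ((Fi23Out.commute_gen_iff hx hc).1 h.symm)
      fin_cases i
      · exact ⟨7, by norm_num, by norm_num, bad 0 (by norm_num) 7 (by norm_num) (by decide +kernel)⟩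
      · exact ⟨7, by norm_num, by norm_num, bad _ w1_lt 7 (by norm_num) (by decide +kernel)⟩
      · exact ⟨7, by norm_num, by norm_num, bad _ w2_lt 7 (by norm_num) (by decide +kernel)⟩
    obtain ⟨x, h0, hx, h⟩ := hex
    exact h (hall x h0 hx)

/-- An automorphism fixing Fi23 and `k c` is the identity. -/
theorem eq_id (hfix : ∀ y : G23, F θ (ξ y) = ξ y) (hk : F θ (gen .k * nd 2) = gen .k * nd 2) :
    ∀ a ∈ A, F θ a = a := by
  let M : Subgroup G := Subgroup.closure {e | ∃ x, e = gen x * L}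
  have hM : ∀ m ∈ M, m ∈ A ∧ F θ m = m ∧ L * m * L ∈ M := by
    intro m hm
    induction hm using Subgroup.closure_induction with
    | mem s hs =>
      obtain ⟨x, rfl⟩ := hs
      have hA : gen x * L ∈ A := mul_mem_A (isConj_L x) L_mem_D
      refine ⟨hA, ?_, ?_⟩
      · by_cases hl : x = .l
        · subst hl; rw [gen_sq, F_one]
        by_cases hkx : x = .k
        · subst hkx
          have e : gen .k * L = gen .k * nd 2 * ξ (Fi23Out.gen 2) := by
            rw [ξ_gen, mul_assoc, ← mul_assoc (nd 2), D_sq (nd_mem 2), one_mul]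
          rw [e, F_mul (mul_mem_A k_mem_D (nd_mem 2)) (ξ_mem_A _), hk, hfix]
        obtain ⟨y, rfl⟩ : ∃ y, node y = x := by
          cases x <;> first
            | exact absurd rfl hkx | exact absurd rfl hl
            | exact ⟨.a, rfl⟩ | exact ⟨.b, rfl⟩ | exact ⟨.c, rfl⟩ | exact ⟨.d, rfl⟩
            | exact ⟨.e, rfl⟩ | exact ⟨.f, rfl⟩ | exact ⟨.g, rfl⟩ | exact ⟨.j, rfl⟩
            | exact ⟨.h, rfl⟩ | exact ⟨.i, rfl⟩
        rw [← ξ_of, hfix]
      · have : L * (gen x * L) * L = (gen x * L)⁻¹ := by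
          rw [mul_inv_rev, gen_inv, gen_inv, ← mul_assoc L, mul_assoc (L * gen x), gen_sq, mul_one]
        rw [this]
        exact inv_mem (Subgroup.subset_closure ⟨x, rfl⟩)
    | one => exact ⟨one_mem _, F_one, by rw [mul_one, gen_sq]; exact one_mem _⟩
    | mul a b _ _ ha hb =>
      refine ⟨mul_mem ha.1 hb.1, by rw [F_mul ha.1 hb.1, ha.2.1, hb.2.1], ?_⟩
      have : L * (a * b) * L = L * a * L * (L * b * L) := by
        simp only [mul_assoc]; rw [← mul_assoc L L, gen_sq, one_mul]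
      rw [this]; exact mul_mem ha.2.2 hb.2.2
    | inv a _ ha =>
      refine ⟨inv_mem ha.1, by rw [F_inv ha.1, ha.2.1], ?_⟩
      have := inv_mem ha.2.2
      rwa [mul_inv_rev, mul_inv_rev, gen_inv, ← mul_assoc] at this
  have hall : ∀ g : G, g ∈ M ∨ g * L ∈ M := by
    intro g
    have hmem : g ∈ Subgroup.closure (Set.range (PresentedGroup.of : Cfsg.Spor.Fi24.Gen → G)) := by
      rw [PresentedGroup.closure_range_of]; trivial
    induction hmem using Subgroup.closure_induction with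
    | mem s hs => obtain ⟨x, rfl⟩ := hs; exact Or.inr (Subgroup.subset_closure ⟨x, rfl⟩)
    | one => exact Or.inl (one_mem _)
    | mul a b _ _ ha hb =>
      rcases ha with ha | ha <;> rcases hb with hb | hb
      · exact Or.inl (mul_mem ha hb)
      · exact Or.inr (by rw [mul_assoc]; exact mul_mem ha hb)
      · refine Or.inr ?_
        have e : a * b * L = a * L * (L * b * L) := by
          simp only [mul_assoc]; rw [← mul_assoc L L, gen_sq, one_mul]
        rw [e]; exact mul_mem ha (hM b hb).2.2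
      · refine Or.inl ?_
        have e : a * b = a * L * (L * (b * L) * L) := by
          simp only [mul_assoc]; rw [← mul_assoc L L, gen_sq, one_mul, mul_one]
        rw [e]; exact mul_mem ha (hM _ hb).2.2
    | inv a _ ha =>
      rcases ha with ha | ha
      · exact Or.inl (inv_mem ha)
      · refine Or.inr ?_
        have e : a⁻¹ * L = L * (a * L)⁻¹ * L := by
          rw [mul_inv_rev, gen_inv, ← mul_assoc L, gen_sq, one_mul]
        rw [e]
        exact (hM _ (inv_mem ha)).2.2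
  intro a ha
  rcases hall a with h | h
  · exact (hM a h).2.1
  · exfalso
    exact not_mem_A L_mem_D (by simpa using mul_mem (inv_mem ha) (hM _ h).1)

/-- Every automorphism is conjugation by an element of Fi24. -/
theorem exists_conj (θ : MulAut A) : ∃ g : G, MulAut.conjNormal g * θ = 1 := by
  obtain ⟨g, hg⟩ := exists_fix_ξ θ
  have hF : ∀ h : G, ∀ x, x ∈ A → F (MulAut.conjNormal h * θ) x = h * F θ x * h⁻¹ := fun h x hx => by
    rw [F_def hx, F_def hx]
    show (MulAut.conjNormal h (θ ⟨x, hx⟩) : G) = _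
    rw [MulAut.conjNormal_apply]
  have hfix : ∀ y : G23, F (MulAut.conjNormal g * θ) (ξ y) = ξ y := fun y => by
    rw [hF _ _ (ξ_mem_A y), hg]
  have done : ∀ h : G, (∀ y : G23, F (MulAut.conjNormal h * θ) (ξ y) = ξ y) →
      F (MulAut.conjNormal h * θ) (gen .k * nd 2) = gen .k * nd 2 →
      MulAut.conjNormal h * θ = 1 := fun h h1 h2 => by
    ext a
    have := eq_id h1 h2 a a.2
    rwa [F_def a.2] at this
  rcases fix_cases hfix with e | e
  · exact ⟨g, done g hfix e⟩
  · refine ⟨L * g, done _ (fun y => ?_) ?_⟩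
    · rw [hF _ _ (ξ_mem_A y)]
      calc L * g * F θ (ξ y) * (L * g)⁻¹ = L * (g * F θ (ξ y) * g⁻¹) * L⁻¹ := by group
        _ = ξ y := by rw [hg, (ξ_comm_L y).symm.eq, mul_inv_cancel_right]
    · rw [hF _ _ (mul_mem_A k_mem_D (nd_mem 2))] at e ⊢
      calc L * g * F θ (gen .k * nd 2) * (L * g)⁻¹
          = L * (g * F θ (gen .k * nd 2) * g⁻¹) * L⁻¹ := by group
        _ = gen .k * nd 2 := by
            rw [e, gen_inv]
            simp only [mul_assoc, gen_sq, mul_one]
            rw [← mul_assoc L L, gen_sq, one_mul]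

/-- Conjugation by `l` is not inner. -/
theorem conj_L_not_inner (a : A) : MulAut.conjNormal L ≠ MulAut.conj a := by
  intro h
  have hz : ∀ b : A, Commute ((a : G)⁻¹ * L) (b : G) := fun b => by
    have e : L * (b : G) * L⁻¹ = (a : G) * b * (a : G)⁻¹ := by
      rw [← MulAut.conjNormal_apply, h]; rfl
    rw [gen_inv] at e
    show (a : G)⁻¹ * L * b = b * ((a : G)⁻¹ * L)
    calc (a : G)⁻¹ * L * b = (a : G)⁻¹ * (L * b * L) * L := by
          simp only [mul_assoc, gen_sq, mul_one]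
      _ = b * ((a : G)⁻¹ * L) := by rw [e]; group
  have hodd : (a : G)⁻¹ * L ∉ A := fun h' =>
    not_mem_A L_mem_D (by simpa using mul_mem a.2 h')
  have hC : sign.ker ≤ Subgroup.centralizer (A : Set G) := by
    refine ker_le inferInstance fun hb => hodd ?_
    have hm : (a : G)⁻¹ * L ∈ Subgroup.centralizer (A : Set G) :=
      Subgroup.mem_centralizer_iff.2 fun b hb' => ((hz ⟨b, hb'⟩).eq).symm
    rw [hb, Subgroup.mem_bot] at hm
    rw [hm]; exact one_mem _
  have h2 := Q_not_commute (i := 0) (j := 1) (by decide)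
  apply h2
  have hmem : ξ (Fi23Out.tau (Fi23Out.fw Fi23Out.w1 0)) ∈ sign.ker := (ξ_range ⟨_, rfl⟩).2
  have h3 : Commute (ξ (Fi23Out.tau 0)) (ξ (Fi23Out.tau (Fi23Out.fw Fi23Out.w1 0))) :=
    Subgroup.mem_centralizer_iff.1 (hC hmem) _ (ξ_mem_A _)
  exact commute_T.2 (commute_ξ.1 h3)

/-- The outer automorphism group of `Fi24'` has order 2. -/
theorem card_out : Nat.card (Cfsg.Out Cfsg.Spor.Fi24') = 2 := by
  show Nat.card (Cfsg.Out A) = 2
  have hinn : ∀ g ∈ A, (MulAut.conjNormal g : MulAut A) ∈ (Inn A : Subgroup (MulAut A)) :=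
    fun g hg => ⟨⟨g, hg⟩, MulEquiv.ext fun x => Subtype.ext (by
      rw [MulAut.conjNormal_apply]; rfl)⟩
  let c : Cfsg.Out A := ((MulAut.conjNormal L : MulAut A) : Cfsg.Out A)
  have hne : c ≠ 1 := fun h => by
    obtain ⟨a, ha⟩ := (QuotientGroup.eq_one_iff _).1 h
    exact conj_L_not_inner a ha.symm
  have hall : ∀ o : Cfsg.Out A, o = 1 ∨ o = c := by
    intro o
    obtain ⟨θ, rfl⟩ := QuotientGroup.mk_surjective o
    obtain ⟨g, hg⟩ := exists_conj θ
    have hθ : θ = MulAut.conjNormal g⁻¹ := by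
      rw [map_inv]; exact eq_inv_of_mul_eq_one_right hg
    rcases mem_A_or g⁻¹ with h | h
    · exact Or.inl ((QuotientGroup.eq_one_iff _).2 (hθ ▸ hinn _ h))
    · refine Or.inr ?_
      have e : θ = MulAut.conjNormal (g⁻¹ * L) * MulAut.conjNormal L := by
        rw [← map_mul, mul_assoc, gen_sq, mul_one, hθ]
      rw [e, QuotientGroup.mk_mul, (QuotientGroup.eq_one_iff _).2 (hinn _ h), one_mul]
  rw [Nat.card_eq_two_iff]
  exact ⟨1, c, hne.symm, Set.eq_univ_of_forall fun o => by
    rcases hall o with rfl | rfl <;> simp⟩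

end Cfsg.Agent.Fi24Out
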